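import Groth.Agent.H22Alg.NormalizationDimOne

/-!
# A finite normalisation is an isomorphism over a nonempty open
-/

set_option autoImplicit false
set_option linter.style.haveILetI false

universe u

open AlgebraicGeometry CategoryTheory TopologicalSpace Opposite

namespace Groth.Agent.H26BMCoh

theorem exists_isIso_normalization (X : Scheme.{u}) [IsIntegral X]
    [QuasiCompact (X.fromSpecStalk (genericPoint X))] [QuasiSeparated (X.fromSpecStalk (genericPoint X))]
    [IsFinite (Curv2.normalizationι X)] :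
    ∃ W : X.Opens, (W : Set X).Nonempty ∧ IsIso (Curv2.normalizationι X ∣_ W) := by
  classical
  obtain ⟨_, ⟨U, hU, rfl⟩, hgU, -⟩ := X.isBasis_affineOpens.exists_subset_of_mem_open
    (Set.mem_univ (genericPoint X)) isOpen_univ
  haveI : Nonempty U := ⟨⟨_, hgU⟩⟩
  haveI := functionField_isFractionRing_of_isAffineOpen X U hU
  set ν := Curv2.normalizationι X
  obtain ⟨φ, hφ⟩ := Groth.Agent.H22Alg.NormalizationDimOne.exists_obj_iso X hU
  have hV : IsAffineOpen (ν ⁻¹ᵁ U) := hU.preimage ν
  have hfin := IsFinite.finite_app ν U hU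
  letI := (ν.app U).hom.toAlgebra
  haveI : Module.Finite Γ(X, U) Γ(Curv2.normalization X, ν ⁻¹ᵁ U) := hfin
  have hinj : ∀ a, (ν.app U).hom a = 0 → a = 0 := fun a ha => by
    rw [← hφ, map_eq_zero_iff _ φ.injective] at ha
    exact IsFractionRing.injective Γ(X, U) X.functionField
      ((congrArg Subtype.val ha).trans (map_zero _).symm)
  have hden : ∀ b, ∃ f : Γ(X, U), f ≠ 0 ∧ ∃ a, (ν.app U).hom a = (ν.app U).hom f * b := fun b => by
    obtain ⟨a, f, hf, h⟩ := IsFractionRing.div_surjective Γ(X, U) (φ.symm b : X.functionField)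
    refine ⟨f, nonZeroDivisors.ne_zero hf, a, ?_⟩
    rw [← hφ, ← hφ, ← φ.apply_symm_apply b, ← map_mul]
    refine congrArg φ (Subtype.ext ?_)
    show algebraMap Γ(X, U) X.functionField a =
      algebraMap Γ(X, U) X.functionField f * (φ.symm b : X.functionField)
    rw [← h, mul_div_cancel₀]
    exact IsFractionRing.to_map_ne_zero_of_mem_nonZeroDivisors hf
  obtain ⟨S, hS⟩ := Module.Finite.fg_top (R := Γ(X, U)) (M := Γ(Curv2.normalization X, ν ⁻¹ᵁ U))
  choose d hd0 hd using hden
  let f := ∏ b ∈ S, d b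
  have hf0 : f ≠ 0 := Finset.prod_ne_zero_iff.2 fun b _ => hd0 b
  have hf : ∀ b, ∃ a, (ν.app U).hom a = (ν.app U).hom f * b := fun b => by
    have hb : b ∈ Submodule.span Γ(X, U) (S : Set Γ(Curv2.normalization X, ν ⁻¹ᵁ U)) := hS ▸ trivial
    induction hb using Submodule.span_induction with
    | mem b hb =>
      obtain ⟨a, ha⟩ := hd b
      refine ⟨(∏ c ∈ S.erase b, d c) * a, ?_⟩
      rw [map_mul, ha, ← mul_assoc, ← map_mul, Finset.prod_erase_mul S d hb]
    | zero => exact ⟨0, by rw [map_zero, mul_zero]⟩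
    | add x y _ _ hx hy =>
      obtain ⟨a, ha⟩ := hx
      obtain ⟨a', ha'⟩ := hy
      exact ⟨a + a', by rw [map_add, ha, ha', mul_add]⟩
    | smul r x _ hx =>
      obtain ⟨a, ha⟩ := hx
      refine ⟨r * a, ?_⟩
      rw [map_mul, ha]
      show _ = (ν.app U).hom f * ((ν.app U).hom r * x)
      ring
  refine ⟨X.basicOpen f, ?_, (isIso_morphismRestrict_iff_isIso_app _ (hU.basicOpen f)).2 ?_⟩
  · rw [Set.nonempty_iff_ne_empty, ne_eq, TopologicalSpace.Opens.coe_eq_empty, basicOpen_eq_bot_iff]
    exact hf0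
  haveI := hU.isLocalization_basicOpen f
  haveI := hV.isLocalization_basicOpen (ν.app U f)
  haveI : IsIso (CommRingCat.ofHom (IsLocalization.Away.map Γ(X, X.basicOpen f)
      Γ(Curv2.normalization X, (Curv2.normalization X).basicOpen (ν.app U f)) (ν.app U).hom f)) :=
    (ConcreteCategory.isIso_iff_bijective _).2
      ⟨(IsLocalization.Away.map_injective_iff _ _ _).2 fun a ha => ⟨0, by rw [pow_zero, one_mul, hinj a ha]⟩,
        (IsLocalization.Away.map_surjective_iff _ _ _ _).2 fun b => by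
          obtain ⟨a, ha⟩ := hf b
          exact ⟨a, 1, by rw [pow_one, ha]⟩⟩
  exact ((MorphismProperty.isomorphisms CommRingCat).arrow_mk_iso_iff
    (hU.appBasicOpenIsoAwayMap ν hV f)).2 this

end Groth.Agent.H26BMCoh
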