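import Groth.Agent.H26BMCoh.Maps

/-!
# Finite disjoint unions
-/

set_option autoImplicit false
set_option linter.style.haveILetI false

universe u

open AlgebraicGeometry CategoryTheory CategoryTheory.Limits TopologicalSpace Topology Opposite

namespace Groth.Agent.H26BMCoh

open BMCoh WeilCoh

variable {V : ObjectProperty Scheme.{u}} [IsConstructible V] {R : Type u} [CommRing R] {A : Coefs R}
  (T : PreTheory V R A)

lemma isClosedImmersion_of_range {X Y : Scheme.{u}} (f : X ⟶ Y) [IsOpenImmersion f]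
    (h : IsClosed (Set.range f)) : IsClosedImmersion f :=
  IsClosedImmersion.of_isPreimmersion f h

/-- A disjoint union of two opens of full dimension. -/
theorem pullProd_bijective {X Y W : Obj V} (iX : X ⟶ W) (iY : Y ⟶ W)
    (h : Set.range iX.hom = (Set.range iY.hom)ᶜ) (M : A.Cat) (i n : ℤ) :
    Function.Bijective (fun a : T.gp W M i n => ((T.pull iX M i n).hom a, (T.pull iY M i n).hom a)) := by
  haveI : IsClosedImmersion iY.hom := isClosedImmersion_of_range _
    (isOpen_compl_iff.1 (h ▸ iX.hom.isOpenEmbedding.isOpen_range))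
  let D : Decomp W := ⟨Y, X, iY.hom, inferInstance, iX, h⟩
  have hc : D.codim = 0 := by
    show (dim W.scheme : ℤ) - dim Y.scheme = 0
    rw [iY.dim_eq, sub_self]
  have hp : ∀ k : ℤ, k = k + 2 * relCodim D.Z.scheme W.scheme := fun k => by
    rw [show relCodim D.Z.scheme W.scheme = 0 from hc]; ring
  have hp' : n = n + relCodim D.Z.scheme W.scheme := by
    rw [show relCodim D.Z.scheme W.scheme = 0 from hc]; ring
  have key : ∀ (k : ℤ) (c : T.gp Y M k n),
      (T.pull iY M k n).hom ((T.push D.i M k n k n (hp k) hp').hom c) = c := fun k c =>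
    pull_push_self T iY M k n (hp k) hp' c
  constructor
  · intro a b hab
    obtain ⟨hX, hY⟩ : (T.pull iX M i n).hom a = (T.pull iX M i n).hom b ∧
        (T.pull iY M i n).hom a = (T.pull iY M i n).hom b := Prod.ext_iff.1 hab
    obtain ⟨c, hc⟩ := exists_push_of_pull_eq_zero T D M i n i n (hp i) hp' (a - b)
      (by rw [map_sub]; exact sub_eq_zero.2 hX)
    have h0 := key i c
    rw [hc, map_sub, hY, sub_self] at h0
    rw [← h0, map_zero] at hc
    exact sub_eq_zero.1 hc.symm
  · rintro ⟨p, q⟩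
    have hi : i + 1 = i + 1 - 2 * D.codim := by rw [hc]; ring
    have hn : n = n - D.codim := by rw [hc]; ring
    have hres : (T.res D M i n (i + 1) n hi hn).hom p = 0 := by
      have h0 := key (i + 1) ((T.res D M i n (i + 1) n hi hn).hom p)
      rwa [push_res_eq_zero T D M i n (i + 1) n hi hn (i + 1) rfl (hp _) hp' p, map_zero, eq_comm] at h0
    obtain ⟨a, ha⟩ := exists_pull_of_res_eq_zero T D M i n (i + 1) n hi hn p hres
    refine ⟨a + (T.push D.i M i n i n (hp i) hp').hom (q - (T.pull iY M i n).hom a), Prod.ext ?_ ?_⟩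
    · exact (map_add _ _ _).trans ((congrArg₂ (· + ·) ha
        (pull_push_eq_zero T D M i n i n (hp i) hp' _)).trans (add_zero p))
    · exact (map_add _ _ _).trans ((congrArg _ (key i _)).trans (add_sub_cancel _ q))

lemma subsingleton_gp_of_isEmpty (W : Obj V) [IsEmpty W.scheme] (M : A.Cat) (i n : ℤ) :
    Subsingleton (T.gp W M i n) := by
  have h := (pullProd_bijective T (𝟙 W) (𝟙 W) (Subsingleton.elim _ _) M i n).2
  refine subsingleton_of_forall_eq 0 fun a => ?_
  obtain ⟨b, hb⟩ := h (a, 0)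
  obtain ⟨h1, h2⟩ := Prod.ext_iff.1 hb
  exact h1.symm.trans h2

lemma dim_res_mono (X : Obj V) {U U' : X.scheme.Opens} (h : U ≤ U') :
    dim (U : Scheme.{u}) ≤ dim (U' : Scheme.{u}) :=
  dim_le (X.res U) fun z => (pdim_res X U z).trans_le (pdim_le_dim_res X U' (h z.2))

lemma range_resLE (X : Obj V) {U U' : X.scheme.Opens} (h : U ≤ U') (hd) :
    Set.range (X.resLE h hd).hom = {y : (U' : Scheme.{u}) | U'.ι y ∈ U} := by
  have hap : ∀ z : (U : Scheme.{u}), U'.ι ((X.resLE h hd).hom z) = U.ι z := fun z => by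
    rw [← Scheme.Hom.comp_apply, resLE_ι]
  ext ⟨y, hy⟩
  constructor
  · rintro ⟨⟨z, hz⟩, he⟩
    show U'.ι ⟨y, hy⟩ ∈ U
    rw [← he, hap]
    exact hz
  · intro hyU
    exact ⟨⟨y, hyU⟩, U'.ι.isOpenEmbedding.injective (hap _)⟩

/-- Separation by a finite disjoint open cover with pieces of full dimension. -/
theorem eq_zero_of_cover {W : Obj V} {α : Type*} (s : Finset α) (P : α → W.scheme.Opens)
    (hdim : ∀ x ∈ s, dim (P x : Scheme.{u}) = dim W.scheme)
    (hdis : ∀ x ∈ s, ∀ y ∈ s, x ≠ y → Disjoint (P x : Set W.scheme) (P y : Set W.scheme))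
    (hcov : ∀ z : W.scheme, ∃ x ∈ s, z ∈ P x) (M : A.Cat) (i n : ℤ) (a : T.gp W M i n)
    (h : ∀ x (hx : x ∈ s), (T.pull (W.resι (P x) (hdim x hx)) M i n).hom a = 0) : a = 0 := by
  classical
  suffices hs : ∀ (t : Finset α), t ⊆ s → t.Nonempty → ∀ (U : W.scheme.Opens),
      (∀ z, z ∈ U ↔ ∃ x ∈ t, z ∈ P x) → ∀ (hU : dim (U : Scheme.{u}) = dim W.scheme),
      (T.pull (W.resι U hU) M i n).hom a = 0 by
    rcases s.eq_empty_or_nonempty with rfl | hne
    · haveI : IsEmpty W.scheme := ⟨fun z => by simpa using hcov z⟩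
      haveI := subsingleton_gp_of_isEmpty T W M i n
      exact Subsingleton.elim _ _
    · have h0 := hs s le_rfl hne ⊤ (fun z => ⟨fun _ => hcov z, fun _ => trivial⟩) (dim_top W.scheme)
      exact (pull_bijective_of_iso T W.resTop (⟨W.scheme.topIso.inv, inferInstance, (dim_top W.scheme).symm⟩ : W ⟶ W.res ⊤)
        (Hom.ext W.scheme.topIso.hom_inv_id) (Hom.ext W.scheme.topIso.inv_hom_id) M i n).1
        (h0.trans (map_zero _).symm)
  intro t
  induction t using Finset.induction_on with
  | empty => intro _ h; exact absurd h Finset.not_nonempty_empty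
  | @insert x t hxt ih =>
    intro hsub _ U hU hdU
    have hxs : x ∈ s := hsub (Finset.mem_insert_self x t)
    have hts : t ⊆ s := (Finset.subset_insert x t).trans hsub
    have hxU : P x ≤ U := fun z hz => (hU z).2 ⟨x, Finset.mem_insert_self x t, hz⟩
    let iX := W.resLE hxU ((hdim x hxs).trans hdU.symm)
    have hX : (T.pull iX M i n).hom ((T.pull (W.resι U hdU) M i n).hom a) = 0 := by
      rw [pull_pull, show iX ≫ W.resι U hdU = W.resι (P x) (hdim x hxs) from Hom.ext (resLE_ι W hxU _)]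
      exact h x hxs
    rcases t.eq_empty_or_nonempty with rfl | hne
    · have hUx : U ≤ P x := fun z hz => by
        obtain ⟨y, hy, hz⟩ := (hU z).1 hz
        simp only [insert_empty_eq, Finset.mem_singleton] at hy
        exact hy ▸ hz
      refine (pull_bijective_of_iso T iX (W.resLE hUx (hdU.trans (hdim x hxs).symm))
        (hom_ext_res (by simp [iX])) (hom_ext_res (by simp [iX])) M i n).1 (hX.trans (map_zero _).symm)
    · let U' : W.scheme.Opens := t.sup P
      have hmem : ∀ z, z ∈ U' ↔ ∃ y ∈ t, z ∈ P y := fun z => by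
        simp only [U', Finset.sup_eq_iSup, Opens.mem_iSup, exists_prop]
      have hU' : U' ≤ U := fun z hz => by
        obtain ⟨y, hy, hz⟩ := (hmem z).1 hz
        exact (hU z).2 ⟨y, Finset.mem_insert_of_mem hy, hz⟩
      obtain ⟨y₀, hy₀⟩ := hne
      have dU' : dim (U' : Scheme.{u}) = dim W.scheme :=
        le_antisymm (dim_res_le W U') ((hdim y₀ (hts hy₀)).symm.trans_le
          (dim_res_mono W fun z hz => (hmem z).2 ⟨y₀, hy₀, hz⟩))
      let iY := W.resLE hU' (dU'.trans hdU.symm)
      have hr : Set.range iX.hom = (Set.range iY.hom)ᶜ := by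
        rw [range_resLE, range_resLE]
        refine Set.ext fun z => ⟨fun hz hz' => ?_, fun hz => ?_⟩
        · obtain ⟨y, hy, hzy⟩ := (hmem _).1 hz'
          exact Set.disjoint_left.1 (hdis x hxs y (hts hy) (fun e => hxt (e ▸ hy))) hz hzy
        · obtain ⟨y, hy, hzy⟩ := (hU _).1 z.2
          rcases Finset.mem_insert.1 hy with rfl | hy
          · exact hzy
          · exact absurd ((hmem _).2 ⟨y, hy, hzy⟩) hz
      refine (pullProd_bijective T iX iY hr M i n).1 (Prod.ext (hX.trans (map_zero _).symm) ?_)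
      refine Eq.trans ?_ (map_zero _).symm
      refine (pull_pull T iY (W.resι U hdU) M i n a).trans ?_
      rw [show iY ≫ W.resι U hdU = W.resι U' dU' from Hom.ext (resLE_ι W hU' _)]
      exact ih hts ⟨y₀, hy₀⟩ U' hmem dU'

/-- Restriction to an open containing all the points of codimension at most one is bijective in
degree at most two. -/
theorem pull_bijective_big {U X : Obj V} (f : U ⟶ X)
    (hbig : ∀ x : X.scheme, x ∉ Set.range f.hom → 2 ≤ codim X.scheme x) (M : A.Cat) (i n : ℤ) (hi : i ≤ 2)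
    (hvan : ∀ (Y : Obj V) (x : Y.scheme) (i n : ℤ), i < 0 → IsZero (T.ptGp Y x M i n)) :
    Function.Bijective (T.pull f M i n).hom := by
  have hX := toFj_bijective T X M i n (hvan X) 1 (by push_cast; omega)
  have hU := toFj_bijective T U M i n (hvan U) 1 (by push_cast; omega)
  let U0 : X.scheme.Opens := f.hom.opensRange
  have hU0 : ContainsFj X 1 U0 := fun y hy => by
    by_contra hn
    have := hbig y hn
    omega
  have dU0 := (Good.fj X 1).dim U0 hU0
  let e : U ⟶ X.res U0 := ⟨f.hom.isoOpensRange.hom, inferInstance, f.dim_eq.trans dU0.symm⟩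
  let e' : X.res U0 ⟶ U := ⟨f.hom.isoOpensRange.inv, inferInstance, (f.dim_eq.trans dU0.symm).symm⟩
  have he : Function.Bijective (T.pull e M i n).hom := pull_bijective_of_iso T e e'
    (Hom.ext f.hom.isoOpensRange.hom_inv_id) (Hom.ext f.hom.isoOpensRange.inv_hom_id) M i n
  have hf : f = e ≫ X.resι U0 dU0 := Hom.ext (f.hom.isoOpensRange_hom_ι).symm
  have htoU : ∀ (V0 : X.scheme.Opens) (h : ContainsFj X 1 V0) (a : T.gp X M i n),
      ((T.toFj X 1 i n).app M).hom a =
        ((T.fjι X 1 i n (fjIdx X V0 h)).app M).hom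
          ((T.pull (X.resι V0 ((Good.fj X 1).dim V0 h)) M i n).hom a) := fun V0 h a => by
    refine Eq.trans ?_ (congrArg (fun g => ((T.fjι X 1 i n (fjIdx X V0 h)).app M).hom ((T.pull g M i n).hom a))
      (show X.resLE le_top (((Good.fj X 1).dim V0 h).trans (dim_top X.scheme).symm) ≫ X.resTop =
        X.resι V0 ((Good.fj X 1).dim V0 h) from Hom.ext (resLE_ι X le_top _)))
    rw [← pull_pull]
    exact (ι_res (T := T) (U := fjIdx X V0 h) (U' := ⟨⊤, fun _ _ => trivial, dim_top X.scheme⟩) le_top _ M i n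
      ((T.pull X.resTop M i n).hom a)).symm
  refine ⟨fun a b hab => hX.1 ?_, fun b => ?_⟩
  · rw [htoU U0 hU0, htoU U0 hU0]
    refine congrArg _ (he.1 ?_)
    rw [pull_pull, pull_pull, ← hf]
    exact hab
  · obtain ⟨b', rfl⟩ := he.2 b
    obtain ⟨a, ha⟩ := hX.2 (((T.fjι X 1 i n (fjIdx X U0 hU0)).app M).hom b')
    rw [htoU U0 hU0] at ha
    refine ⟨a, ?_⟩
    rw [hf, ← pull_pull]
    refine hU.1 ?_
    rw [← sub_eq_zero, ← map_sub, ← map_sub]
    obtain ⟨⟨V0, hV0, dV0⟩, hle, hd⟩ := (eq_zero_iff (T := T) (U := fjIdx X U0 hU0) (Good.fj X 1) M i n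
      ((T.pull (X.resι U0 dU0) M i n).hom a - b')).1 (by rw [map_sub]; exact sub_eq_zero.2 ha)
    let Vp : U.scheme.Opens := f.hom ⁻¹ᵁ V0
    have hVp : ContainsFj U 1 Vp := fun y hy => hV0 _ ((codim_openImm f y).symm.trans_le hy)
    have dVp := (Good.fj U 1).dim Vp hVp
    let g : U.res Vp ⟶ X.res V0 := ⟨f.hom ∣_ V0, inferInstance, dVp.trans (f.dim_eq.trans dV0.symm)⟩
    have hzero : (T.pull (U.resι Vp dVp) M i n).hom
        ((T.pull e M i n).hom ((T.pull (X.resι U0 dU0) M i n).hom a - b')) = 0 := by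
      rw [pull_pull, show U.resι Vp dVp ≫ e = g ≫ X.resLE hle (dV0.trans dU0.symm) from hom_ext_res (by
        show (Vp.ι ≫ f.hom.isoOpensRange.hom) ≫ U0.ι = ((f.hom ∣_ V0) ≫ X.scheme.homOfLE hle) ≫ U0.ι
        rw [Category.assoc, Category.assoc, Scheme.homOfLE_ι, morphismRestrict_ι]
        exact congrArg (Vp.ι ≫ ·) f.hom.isoOpensRange_hom_ι), ← pull_pull]
      exact (congrArg _ hd).trans (map_zero _)
    refine (eq_zero_iff (T := T) (U := ⟨⊤, fun _ _ => trivial, dim_top U.scheme⟩) (Good.fj U 1) M i n _).2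
      ⟨fjIdx U Vp hVp, le_top, ?_⟩
    refine (pull_pull T _ U.resTop M i n _).trans ?_
    refine Eq.trans (congrArg (fun h => (T.pull h M i n).hom _) (?_ : _ = U.resι Vp dVp)) hzero
    exact Hom.ext (resLE_ι U le_top _)

end Groth.Agent.H26BMCoh
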