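import Groth.Agent.H26BMCoh.Maps

/-!
# A bijectivity criterion from the closed subschemes of a fixed codimension
-/

set_option autoImplicit false
set_option linter.style.haveILetI false

universe u

open AlgebraicGeometry CategoryTheory CategoryTheory.Limits TopologicalSpace Topology Opposite

namespace Groth.Agent.H26BMCoh

open BMCoh WeilCoh

variable {V : ObjectProperty Scheme.{u}} [IsConstructible V] {R : Type u} [CommRing R] {A : Coefs R}
  (T : PreTheory V R A)

/-- A closed subset with its reduced structure, as an object. -/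
noncomputable abbrev clObj (X : Obj V) (K : Closeds X.scheme) : Obj V :=
  ⟨(Scheme.IdealSheafData.vanishingIdeal K).subscheme,
    IsConstructible.of_isClosedImmersion (Scheme.IdealSheafData.vanishingIdeal K).subschemeι
      (h := (inferInstance : IsClosedImmersion _)) X.mem⟩

/-- The inclusion of a closed subset. -/
noncomputable abbrev clι (X : Obj V) (K : Closeds X.scheme) : (clObj X K).scheme ⟶ X.scheme :=
  (Scheme.IdealSheafData.vanishingIdeal K).subschemeι

instance (X : Obj V) (K : Closeds X.scheme) : IsReduced (clObj X K).scheme :=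
  Groth.Agent.H17.isReduced_vanishingIdeal_subscheme _

lemma range_clι (X : Obj V) (K : Closeds X.scheme) : Set.range (clι X K) = (K : Set X.scheme) := by
  rw [Scheme.IdealSheafData.range_subschemeι, Scheme.IdealSheafData.coe_support_vanishingIdeal]

/-- Outside a given open containing `F_j` there is a closed set of dimension exactly `dim X - (j + 1)`. -/
lemma exists_closed_dim (X : Obj V) {j : ℕ} (hj : j + 1 ≤ dim X.scheme) {U : X.scheme.Opens}
    (hU : ContainsFj X j U) :
    ∃ K : Closeds X.scheme, (U : Set X.scheme)ᶜ ⊆ K ∧ (∀ z ∈ K, j < codim X.scheme z) ∧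
      dim (clObj X K).scheme + (j + 1) = dim X.scheme := by
  have : Nonempty X.scheme := by
    by_contra hne
    have := dim_le X (n := 0) fun x => absurd ⟨x⟩ hne
    omega
  obtain ⟨x, hx⟩ := exists_pdim_eq_dim X
  obtain ⟨y, -, hy⟩ := exists_pdim_eq X x (n := dim X.scheme - (j + 1)) (by omega)
  let K : Closeds X.scheme := ⟨(U : Set X.scheme)ᶜ ∪ closure {y}, U.2.isClosed_compl.union isClosed_closure⟩
  have hK : ∀ z ∈ K, j < codim X.scheme z := fun z hz => by
    rcases hz with hz | hz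
    · exact not_le.1 fun h => hz (hU z h)
    · have := pdim_mono X (specializes_iff_mem_closure.2 hz)
      have := codim_add_pdim X z
      omega
  refine ⟨K, Set.subset_union_left, hK, ?_⟩
  suffices h : dim (clObj X K).scheme = dim X.scheme - (j + 1) by omega
  refine le_antisymm (dim_le _ fun z => ?_) ?_
  · rw [pdim_closedImm X (clObj X K) (clι X K)]
    have h1 := hK (clι X K z) ((Set.ext_iff.1 (range_clι X K) _).1 (Set.mem_range_self z))
    have := codim_add_pdim X (clι X K z)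
    omega
  · obtain ⟨z, hz⟩ : y ∈ Set.range (clι X K) := range_clι X K ▸ Or.inr (subset_closure rfl)
    have h := pdim_le_dim (clObj X K) z
    rwa [pdim_closedImm X (clObj X K) (clι X K), hz, hy] at h

lemma containsFj_compl {X : Obj V} {j : ℕ} {K : Closeds X.scheme} (hK : ∀ z ∈ K, j < codim X.scheme z) :
    ContainsFj X j ⟨(K : Set X.scheme)ᶜ, K.2.isOpen_compl⟩ := fun z hz hzK => by
  have := hK z hzK; omega

lemma codim_clι (X : Obj V) {k : ℕ} {K : Closeds X.scheme}
    (hd : dim (clObj X K).scheme + k = dim X.scheme) (z : (clObj X K).scheme) :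
    codim X.scheme (clι X K z) = codim (clObj X K).scheme z + k := by
  have := codim_add_pdim X (clι X K z)
  have := codim_add_pdim (clObj X K) z
  have := pdim_closedImm X (clObj X K) (clι X K) z
  omega

lemma containsFj_preimage_cl (X : Obj V) {k m p : ℕ} (hp : m + k ≤ p) {K : Closeds X.scheme}
    (hd : dim (clObj X K).scheme + k = dim X.scheme) {Vo : X.scheme.Opens} (hV : ContainsFj X p Vo) :
    ContainsFj (clObj X K) m (clι X K ⁻¹ᵁ Vo) := fun z hz =>
  hV _ (by rw [codim_clι X hd]; omega)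

lemma containsFj_cut_cl (X : Obj V) {k m p : ℕ} (hp : p ≤ k + m) {K : Closeds X.scheme}
    (hd : dim (clObj X K).scheme + k = dim X.scheme) {Vo : X.scheme.Opens} (hV : ContainsFj X p Vo)
    {W : (clObj X K).scheme.Opens} (hW : ContainsFj (clObj X K) m W) :
    ContainsFj X p (cut (clι X K) Vo W) := fun y hy => (mem_cut _).2 ⟨hV y hy, fun z hz => hW z (by
  have := codim_clι X hd z
  rw [hz] at this
  omega)⟩

theorem fjRes_bijective_closed (X : Obj V) (M : A.Cat) (j m : ℕ) (i n : ℤ)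
    (hZ : ∀ K : Closeds X.scheme, dim (clObj X K).scheme + (j + 1) = dim X.scheme →
      IsZero (T.fjGp (clObj X K) m M (i - 2 * ((j : ℤ) + 1)) (n - ((j : ℤ) + 1))) ∧
      IsZero (T.fjGp (clObj X K) m M (i + 1 - 2 * ((j : ℤ) + 1)) (n - ((j : ℤ) + 1))))
    {p : ℕ} (hjp : j ≤ p) (hp : p = j + 1 + m) :
    Function.Bijective ((T.fjRes X hjp i n).app M).hom := by
  by_cases hj : dim X.scheme ≤ j
  · have h : ∀ q, j ≤ q → Function.Bijective ((T.toFj X q i n).app M).hom := fun q hq =>
      toFj_bijective_of_dim_le T X q (hj.trans hq) M i n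
    have hcomp : ((T.fjRes X hjp i n).app M).hom ∘ ((T.toFj X p i n).app M).hom =
        ((T.toFj X j i n).app M).hom := funext fun a => fjRes_toFj T X hjp M i n a
    exact (Function.Bijective.of_comp_iff _ (h p hjp)).1 (hcomp ▸ h j le_rfl)
  push Not at hj
  constructor
  · refine (injective_iff_map_eq_zero _).2 fun β hβ => ?_
    obtain ⟨⟨Vb, hVb, hVbd⟩, b, rfl⟩ := exists_rep (T := T) (Good.fj X p) M i n β
    rw [fjRes_ι] at hβ
    obtain ⟨⟨U, hU, hUd⟩, hle, hb⟩ := (eq_zero_iff (T := T)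
      (U := fjIdx X Vb (containsFj_mono X hjp Vb hVb)) (Good.fj X j) M i n b).1 hβ
    obtain ⟨K, hUK, hK, hKd⟩ := exists_closed_dim X hj hU
    let U' : X.scheme.Opens := ⟨(K : Set X.scheme)ᶜ, K.2.isOpen_compl⟩
    have hU'U : U' ≤ U := fun z hz => by_contra fun h => hz (hUK h)
    have hU' : ContainsFj X j U' := containsFj_compl hK
    have hUV : (U' : Set X.scheme) = (Vb : Set X.scheme) \ Set.range (clι X K) := by
      rw [range_clι]
      ext z
      exact ⟨fun hz => ⟨hle (hU'U hz), hz⟩, fun hz => hz.2⟩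
    have dU := (Good.fj X j).dim U' hU'
    have hd := dU.trans hVbd.symm
    have hW : ContainsFj (clObj X K) m (clι X K ⁻¹ᵁ Vb) :=
      containsFj_preimage_cl X (by omega) hKd hVb
    have dW := (Good.fj (clObj X K) m).dim _ hW
    have hc : relCodim ((clObj X K).res (clι X K ⁻¹ᵁ Vb)).scheme (X.res Vb).scheme = (j : ℤ) + 1 := by
      show (dim (Vb : Scheme.{u}) : ℤ) - (dim ((clι X K ⁻¹ᵁ Vb : _) : Scheme.{u}) : ℤ) = _
      rw [hVbd, dW]; omega
    obtain ⟨c, hc'⟩ := exists_push_of_pull_eq_zero T (lDec (clι X K) U' Vb hUV hd) M i n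
      (i - 2 * ((j : ℤ) + 1)) (n - ((j : ℤ) + 1))
      (show i = _ + 2 * relCodim ((clObj X K).res (clι X K ⁻¹ᵁ Vb)).scheme (X.res Vb).scheme by
        rw [hc]; ring)
      (show n = _ + relCodim ((clObj X K).res (clι X K ⁻¹ᵁ Vb)).scheme (X.res Vb).scheme by
        rw [hc]; ring)
      b (show (T.pull (X.resLE _ hd) M i n).hom b = 0 by
        rw [← pull_resLE_resLE T X hU'U hle (dU.trans hUd.symm) (hUd.trans hVbd.symm)]
        exact (congrArg _ hb).trans (map_zero _))
    haveI := ModuleCat.subsingleton_of_isZero (hZ K hKd).1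
    obtain ⟨⟨W', hW', hW'd⟩, hW'le, hc0⟩ := (eq_zero_iff (T := T) (U := fjIdx (clObj X K) _ hW)
      (Good.fj (clObj X K) m) M _ _ c).1 (Subsingleton.elim _ _)
    let Vo := cut (clι X K) Vb W'
    have hV : ContainsFj X p Vo := containsFj_cut_cl X (by omega) hKd hVb hW'
    have hVle : Vo ≤ Vb := cut_le _ _ _
    have hWo : clι X K ⁻¹ᵁ Vo ≤ W' := by rw [preimage_cut]; exact inf_le_right
    have dWo := (Good.fj (clObj X K) m).dim _ (containsFj_preimage_cl X (m := m) (p := p) (by omega) hKd hV)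
    have dV := (Good.fj X p).dim Vo hV
    refine (eq_zero_iff (T := T) (U := fjIdx X Vb hVb) (Good.fj X p) M i n b).2 ⟨fjIdx X Vo hV, hVle, ?_⟩
    subst hc'
    have hco : relCodim ((clObj X K).res (clι X K ⁻¹ᵁ Vo)).scheme (X.res Vo).scheme = (j : ℤ) + 1 := by
      show (dim (Vo : Scheme.{u}) : ℤ) - (dim ((clι X K ⁻¹ᵁ Vo : _) : Scheme.{u}) : ℤ) = _
      rw [dV, dWo]; omega
    refine (pull_push_restrict T (clι X K) hVle _ (dWo.trans dW.symm) M _ _ i n _ _
      (by rw [hco]; ring) (by rw [hco]; ring) c).trans ?_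
    refine (congrArg _ ?_).trans (map_zero _)
    rw [← pull_resLE_resLE T (clObj X K) hWo hW'le (dWo.trans hW'd.symm) (hW'd.trans dW.symm)]
    exact (congrArg _ hc0).trans (map_zero _)
  · intro α
    obtain ⟨⟨U, hU, hUd⟩, a, rfl⟩ := exists_rep (T := T) (Good.fj X j) M i n α
    obtain ⟨K, hUK, hK, hKd⟩ := exists_closed_dim X hj hU
    let U' : X.scheme.Opens := ⟨(K : Set X.scheme)ᶜ, K.2.isOpen_compl⟩
    have hU'U : U' ≤ U := fun z hz => by_contra fun h => hz (hUK h)
    have hU' : ContainsFj X j U' := containsFj_compl hK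
    have hUV : (U' : Set X.scheme) = ((⊤ : X.scheme.Opens) : Set X.scheme) \ Set.range (clι X K) := by
      rw [range_clι]
      ext z
      exact ⟨fun hz => ⟨trivial, hz⟩, fun hz => hz.2⟩
    have dU := (Good.fj X j).dim U' hU'
    have dT : dim ((⊤ : X.scheme.Opens) : Scheme.{u}) = dim X.scheme := dim_top X.scheme
    have hT : ContainsFj X p (⊤ : X.scheme.Opens) := fun _ _ => trivial
    have hd := dU.trans dT.symm
    have hW : ContainsFj (clObj X K) m (clι X K ⁻¹ᵁ ⊤) := fun _ _ => trivial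
    have dW := (Good.fj (clObj X K) m).dim _ hW
    have hc : (lDec (clι X K) U' ⊤ hUV hd).codim = (j : ℤ) + 1 := by
      show (dim ((⊤ : X.scheme.Opens) : Scheme.{u}) : ℤ) - (dim ((clι X K ⁻¹ᵁ ⊤ : _) : Scheme.{u}) : ℤ) = _
      rw [dT, dW]; omega
    let a' := (T.pull (X.resLE hU'U (dU.trans hUd.symm)) M i n).hom a
    have h1 : i + 1 - 2 * ((j : ℤ) + 1) = i + 1 - 2 * (lDec (clι X K) U' ⊤ hUV hd).codim := by rw [hc]
    have h1' : n - ((j : ℤ) + 1) = n - (lDec (clι X K) U' ⊤ hUV hd).codim := by rw [hc]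
    haveI := ModuleCat.subsingleton_of_isZero (hZ K hKd).2
    obtain ⟨⟨W', hW', hW'd⟩, hW'le, hr⟩ := (eq_zero_iff (T := T) (U := fjIdx (clObj X K) _ hW)
      (Good.fj (clObj X K) m) M _ _ ((T.res (lDec (clι X K) U' ⊤ hUV hd) M i n _ _ h1 h1').hom a')).1
      (Subsingleton.elim _ _)
    let Vo := cut (clι X K) ⊤ W'
    have hV : ContainsFj X p Vo := containsFj_cut_cl X (by omega) hKd hT hW'
    have hUo : U' ≤ Vo := fun z hz => (mem_cut _).2
      ⟨trivial, fun w hw => absurd (range_clι X K ▸ ⟨w, hw⟩ : z ∈ (K : Set X.scheme)) hz⟩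
    have hUVo : (U' : Set X.scheme) = (Vo : Set X.scheme) \ Set.range (clι X K) :=
      Set.ext fun z => ⟨fun hz => ⟨hUo hz, ((Set.ext_iff.1 hUV z).1 hz).2⟩,
        fun hz => (Set.ext_iff.1 hUV z).2 ⟨trivial, hz.2⟩⟩
    have hWo : clι X K ⁻¹ᵁ Vo ≤ W' := by rw [preimage_cut]; exact inf_le_right
    have dWo := (Good.fj (clObj X K) m).dim _ (containsFj_preimage_cl X (m := m) (p := p) (by omega) hKd hV)
    have dV := (Good.fj X p).dim Vo hV
    have hdo := dU.trans dV.symm
    have hco : (lDec (clι X K) U' Vo hUVo hdo).codim = (j : ℤ) + 1 := by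
      show (dim (Vo : Scheme.{u}) : ℤ) - (dim ((clι X K ⁻¹ᵁ Vo : _) : Scheme.{u}) : ℤ) = _
      rw [dV, dWo]; omega
    have h2 : i + 1 - 2 * ((j : ℤ) + 1) = i + 1 - 2 * (lDec (clι X K) U' Vo hUVo hdo).codim := by rw [hco]
    have h2' : n - ((j : ℤ) + 1) = n - (lDec (clι X K) U' Vo hUVo hdo).codim := by rw [hco]
    have hres := res_restrict T (clι X K) (le_top : Vo ≤ ⊤) le_rfl hUV hd hUVo hdo rfl
      (dWo.trans dW.symm) (dV.trans dT.symm) M i n _ _ h1 h1' h2 h2' a'
    rw [pull_resLE_self] at hres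
    erw [← pull_resLE_resLE T (clObj X K) hWo hW'le (dWo.trans hW'd.symm) (hW'd.trans dW.symm)] at hres
    erw [hr, map_zero] at hres
    obtain ⟨a1, ha1⟩ := exists_pull_of_res_eq_zero T (lDec (clι X K) U' Vo hUVo hdo) M i n _ _ h2 h2' a'
      hres.symm
    refine ⟨((T.fjι X p i n (fjIdx X Vo hV)).app M).hom a1, ?_⟩
    rw [fjRes_ι, ← ι_res (T := T) (U := fjIdx X U' hU') (U' := ⟨U, hU, hUd⟩) hU'U (dU.trans hUd.symm) M i n a]
    refine Eq.trans (ι_res (T := T) (U := fjIdx X U' hU')
      (U' := fjIdx X Vo (containsFj_mono X hjp Vo hV)) hUo hdo M i n a1).symm ?_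
    exact congrArg _ ha1

end Groth.Agent.H26BMCoh
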