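import Groth.Agent.H26BMCoh.Dim
import Mathlib.Algebra.Category.ModuleCat.FilteredColimits

/-!
# Elements of the open-system colimits
-/

set_option autoImplicit false
set_option linter.style.haveILetI false

universe u

open AlgebraicGeometry CategoryTheory CategoryTheory.Limits TopologicalSpace Topology Opposite

namespace Groth.Agent.H26BMCoh

open BMCoh WeilCoh

variable {V : ObjectProperty Scheme.{u}} [IsConstructible V] {R : Type u} [CommRing R] {A : Coefs R}
  (T : PreTheory V R A)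

lemma hom_ext_res {X Y : Obj V} {U : X.scheme.Opens} {f g : Y ⟶ X.res U}
    (h : f.hom ≫ U.ι = g.hom ≫ U.ι) : f = g :=
  Hom.ext ((cancel_mono U.ι).1 h)

@[simp]
lemma resLE_ι (X : Obj V) {U U' : X.scheme.Opens} (h : U ≤ U')
    (hd : dim (U : Scheme.{u}) = dim (U' : Scheme.{u})) : (X.resLE h hd).hom ≫ U'.ι = U.ι :=
  X.scheme.homOfLE_ι h

lemma pull_pull {X Y Z : Obj V} (f : X ⟶ Y) (g : Y ⟶ Z) (M : A.Cat) (i n : ℤ) (a : T.gp Z M i n) :
    (T.pull f M i n).hom ((T.pull g M i n).hom a) = (T.pull (f ≫ g) M i n).hom a := by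
  show _ = (((T.H i n).map (f ≫ g).op).app M).hom a
  rw [op_comp, Functor.map_comp, NatTrans.comp_app]
  rfl

lemma pull_id (X : Obj V) (M : A.Cat) (i n : ℤ) (a : T.gp X M i n) :
    (T.pull (𝟙 X) M i n).hom a = a := by
  show (((T.H i n).map (𝟙 X).op).app M).hom a = a
  rw [op_id, CategoryTheory.Functor.map_id]
  rfl

lemma pull_resLE_resLE (X : Obj V) {U U' U'' : X.scheme.Opens} (h : U ≤ U') (h' : U' ≤ U'') (hd hd' hd'')
    (M : A.Cat) (i n : ℤ) (a : T.gp (X.res U'') M i n) :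
    (T.pull (X.resLE h hd) M i n).hom ((T.pull (X.resLE h' hd') M i n).hom a) =
      (T.pull (X.resLE (h.trans h') hd'') M i n).hom a := by
  rw [pull_pull]
  refine congrArg (fun f => (T.pull f M i n).hom a) (hom_ext_res ?_)
  rw [comp_hom, Category.assoc, resLE_ι, resLE_ι, resLE_ι]

lemma pull_resLE_self (X : Obj V) {U : X.scheme.Opens} (h : U ≤ U) (hd) (M : A.Cat) (i n : ℤ)
    (a : T.gp (X.res U) M i n) : (T.pull (X.resLE h hd) M i n).hom a = a := by
  rw [show X.resLE h hd = 𝟙 _ from hom_ext_res (by rw [resLE_ι, id_hom, Category.id_comp]), pull_id]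

/-- The conditions on an index property making the colimit filtered. -/
structure Good (X : Obj V) (P : X.scheme.Opens → Prop) : Prop where
  top : P ⊤
  inf : ∀ U U', P U → P U' → P (U ⊓ U')
  dim : ∀ U, P U → WeilCoh.dim (U : Scheme.{u}) = WeilCoh.dim X.scheme

lemma Good.fj (X : Obj V) (j : ℕ) : Good X (ContainsFj X j) where
  top := fun _ _ => trivial
  inf := fun _ _ h h' y hy => ⟨h y hy, h' y hy⟩
  dim := fun U hU => dim_res_eq X U fun y hy => hU y (hy.trans_le (Nat.zero_le j))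

lemma Good.pt (X : Obj V) (x : X.scheme) :
    Good (X.ptSub x) (fun U => (U : Set (X.ptSub x).scheme).Nonempty) where
  top := ⟨ptGen X x, trivial⟩
  inf := fun _ _ h h' => ⟨ptGen X x, ptGen_mem X x h, ptGen_mem X x h'⟩
  dim := fun U hU => (dim_open_ptSub X x U hU).trans (dim_ptSub X x).symm

variable {T} {X : Obj V} {P : X.scheme.Opens → Prop}

lemma Good.isFiltered (hP : Good X P) : IsFiltered (Idx X P)ᵒᵖ := by
  haveI : Nonempty (Idx X P) := ⟨⟨⊤, hP.top, hP.dim _ hP.top⟩⟩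
  haveI : IsCodirectedOrder (Idx X P) := ⟨fun U U' =>
    ⟨⟨U.1 ⊓ U'.1, hP.inf _ _ U.2.1 U'.2.1, hP.dim _ (hP.inf _ _ U.2.1 U'.2.1)⟩,
      inf_le_left (a := U.1) (b := U'.1), inf_le_right (a := U.1) (b := U'.1)⟩⟩
  infer_instance

/-- The colimit, at one coefficient module. -/
noncomputable def ocolimIsColimit (X : Obj V) (P : X.scheme.Opens → Prop) (M : A.Cat) (i n : ℤ) :
    IsColimit (((evaluation A.Cat (ModuleCat.{u} R)).obj M).mapCocone
      (colimit.cocone ((idxDiag X P).op ⋙ T.H i n))) :=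
  isColimitOfPreserves _ (colimit.isColimit _)

lemma exists_rep (hP : Good X P) (M : A.Cat) (i n : ℤ) (a : (T.ocolim X P i n).obj M) :
    ∃ (U : Idx X P) (b : T.gp (X.res U.1) M i n), ((T.ocolimι X P i n U).app M).hom b = a := by
  haveI := hP.isFiltered
  obtain ⟨U, b, hb⟩ := Concrete.isColimit_exists_rep _ (ocolimIsColimit (T := T) X P M i n) a
  exact ⟨U.unop, b, hb⟩

lemma ι_res {U U' : Idx X P} (h : U.1 ≤ U'.1) (hd) (M : A.Cat) (i n : ℤ)
    (b : T.gp (X.res U'.1) M i n) :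
    ((T.ocolimι X P i n U).app M).hom ((T.pull (X.resLE h hd) M i n).hom b) =
      ((T.ocolimι X P i n U').app M).hom b := by
  have hw := congrArg (fun z => (z.app M).hom b)
    (colimit.w ((idxDiag X P).op ⋙ T.H i n) (homOfLE (show U ≤ U' from h)).op)
  exact hw

lemma eq_zero_iff (hP : Good X P) {U : Idx X P} (M : A.Cat) (i n : ℤ) (b : T.gp (X.res U.1) M i n) :
    ((T.ocolimι X P i n U).app M).hom b = 0 ↔
      ∃ (U' : Idx X P) (h : U'.1 ≤ U.1),
        (T.pull (X.resLE h (U'.2.2.trans U.2.2.symm)) M i n).hom b = 0 := by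
  haveI := hP.isFiltered
  constructor
  · intro h
    obtain ⟨W, f, g, hfg⟩ := (Concrete.isColimit_rep_eq_iff_exists _
      (ocolimIsColimit (T := T) X P M i n) (i := op U) (j := op U) b (0 : T.gp (X.res U.1) M i n)).1
      (h.trans (map_zero _).symm)
    refine ⟨W.unop, f.unop.le, ?_⟩
    exact hfg.trans (map_zero _)
  · rintro ⟨U', h, hb⟩
    rw [← ι_res h (U'.2.2.trans U.2.2.symm), hb, map_zero]

lemma fjRes_ι (X : Obj V) {j m : ℕ} (h : j ≤ m) (M : A.Cat) (i n : ℤ) (U : Idx X (ContainsFj X m))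
    (b : T.gp (X.res U.1) M i n) :
    ((T.fjRes X h i n).app M).hom (((T.fjι X m i n U).app M).hom b) =
      ((T.fjι X j i n ⟨U.1, containsFj_mono X h U.1 U.2.1, U.2.2⟩).app M).hom b := by
  have hw := congrArg (fun z => (z.app M).hom b)
    (colimit.ι_pre ((idxDiag X (ContainsFj X j)).op ⋙ T.H i n) (idxIncl X (containsFj_mono X h)).op (op U))
  exact hw

/-- The index of an open containing `F_j`. -/
abbrev fjIdx (X : Obj V) {j : ℕ} (U : X.scheme.Opens) (hU : ContainsFj X j U) : Idx X (ContainsFj X j) :=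
  ⟨U, hU, (Good.fj X j).dim U hU⟩

/-- The index of a nonempty open of the closure of a point. -/
abbrev ptIdxMk (X : Obj V) (x : X.scheme) (W : (X.ptSub x).scheme.Opens)
    (hW : (W : Set (X.ptSub x).scheme).Nonempty) : ptIdx X x :=
  ⟨W, hW, (Good.pt X x).dim W hW⟩

end Groth.Agent.H26BMCoh
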