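import Groth.Prelude.Def_BMCoh
import Groth.Prelude.Def_BMCoh2
import Groth.Prelude.Def_BMCoh3
import Groth.Agent.H17.Dim
import Groth.Agent.H17.Reduced

/-!
# Dimensions of points in the members of a constructible class
-/

set_option autoImplicit false
set_option linter.style.haveILetI false

universe u

open AlgebraicGeometry CategoryTheory CategoryTheory.Limits TopologicalSpace Topology

namespace Groth.Agent.H26BMCoh

open BMCoh WeilCoh

variable {V : ObjectProperty Scheme.{u}} [IsConstructible V]

attribute [local instance] specializationOrder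

instance (X : Obj V) : IsNoetherian X.scheme := IsConstructible.isNoetherian X.mem

lemma natDim_eq_of_range_eq {α β γ : Type u} [TopologicalSpace α] [TopologicalSpace β]
    [TopologicalSpace γ] {f : α → γ} {g : β → γ} (hf : IsEmbedding f) (hg : IsEmbedding g)
    (h : Set.range f = Set.range g) : natDim α = natDim β := by
  unfold natDim
  rw [IsHomeomorph.topologicalKrullDim_eq _
    (hf.toHomeomorph.trans ((Homeomorph.setCongr h).trans hg.toHomeomorph.symm)).isHomeomorph]

lemma height_lt_top (X : Obj V) (x : X.scheme) : Order.height x < ⊤ := by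
  have h1 : ((Order.height x : ℕ∞) : WithBot ℕ∞) < ⊤ := by
    refine (Order.height_le_krullDim x).trans_lt ?_
    rw [← Groth.Agent.H17.topologicalKrullDim_eq_krullDim_specialization]
    exact IsConstructible.finiteDim X.mem
  cases hh : Order.height x with
  | top => rw [hh] at h1; exact absurd rfl h1.ne
  | coe n => exact ENat.natCast_lt_top n

lemma pdim_eq_height (X : Obj V) (x : X.scheme) : (pdim X.scheme x : ℕ∞) = Order.height x := by
  haveI : QuasiSober (closure ({x} : Set X.scheme)) :=
    isClosed_closure.isClosedEmbedding_subtypeVal.quasiSober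
  have e : topologicalKrullDim (closure ({x} : Set X.scheme)) = (Order.height x : ℕ∞) := by
    rw [Groth.Agent.H17.topologicalKrullDim_eq_krullDim_specialization, Order.height_eq_krullDim_Iic]
    let e : @OrderIso (closure ({x} : Set X.scheme)) (Set.Iic x)
        (specializationOrder (closure ({x} : Set X.scheme))).toPreorder.toLE _ :=
      { toFun := fun y => ⟨y.1, specializes_iff_mem_closure.2 y.2⟩
        invFun := fun y => ⟨y.1, specializes_iff_mem_closure.1 y.2⟩
        left_inv := fun _ => rfl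
        right_inv := fun _ => rfl
        map_rel_iff' := fun {a b} => (subtype_specializes_iff (x := b) (y := a)).symm }
    exact @Order.krullDim_eq_of_orderIso _ _ (specializationOrder _).toPreorder _ e
  unfold pdim natDim
  rw [e]
  obtain ⟨m, hm⟩ := ENat.ne_top_iff_exists.1 (height_lt_top X x).ne
  rw [← hm]
  rfl

lemma pdim_mono (X : Obj V) {x y : X.scheme} (h : x ⤳ y) : pdim X.scheme y ≤ pdim X.scheme x := by
  have h1 := Order.height_mono (show y ≤ x from h)
  rw [← pdim_eq_height, ← pdim_eq_height] at h1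
  exact ENat.natCast_le_natCast.1 h1

lemma pdim_lt (X : Obj V) {x y : X.scheme} (h : x ⤳ y) (hne : x ≠ y) :
    pdim X.scheme y < pdim X.scheme x := by
  have h1 := Order.height_strictMono (lt_of_le_of_ne (show y ≤ x from h) hne.symm) (height_lt_top X y)
  rw [← pdim_eq_height, ← pdim_eq_height] at h1
  exact ENat.natCast_lt_natCast.1 h1

lemma eq_of_specializes_of_pdim_le (X : Obj V) {x y : X.scheme} (h : x ⤳ y)
    (hle : pdim X.scheme x ≤ pdim X.scheme y) : x = y :=
  by_contra fun hne => absurd hle (not_le.2 (pdim_lt X h hne))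

lemma pdim_le_dim (X : Obj V) (x : X.scheme) : pdim X.scheme x ≤ dim X.scheme := by
  have h1 := Order.height_le_krullDim x
  rw [← pdim_eq_height, ← Groth.Agent.H17.topologicalKrullDim_eq_krullDim_specialization] at h1
  have h2 : topologicalKrullDim X.scheme ≠ ⊤ := (IsConstructible.finiteDim X.mem).ne
  show pdim X.scheme x ≤ ((topologicalKrullDim X.scheme).unbotD 0).toNat
  revert h1 h2
  cases topologicalKrullDim X.scheme with
  | bot => intro h1 _; exact absurd h1 (by simp)
  | coe a =>
    intro h1 h2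
    obtain ⟨m, rfl⟩ := ENat.ne_top_iff_exists.1 (fun h => h2 (by rw [h]; rfl) : a ≠ ⊤)
    exact ENat.natCast_le_natCast.1 (WithBot.coe_le_coe.1 h1)

lemma dim_le (X : Obj V) {n : ℕ} (h : ∀ x : X.scheme, pdim X.scheme x ≤ n) : dim X.scheme ≤ n := by
  have h1 : topologicalKrullDim X.scheme ≤ ((n : ℕ∞) : WithBot ℕ∞) := by
    rw [Groth.Agent.H17.topologicalKrullDim_eq_krullDim_specialization, Order.krullDim_eq_iSup_height]
    refine iSup_le fun x => WithBot.coe_le_coe.2 ?_
    rw [← pdim_eq_height]
    exact ENat.natCast_le_natCast.2 (h x)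
  show ((topologicalKrullDim X.scheme).unbotD 0).toNat ≤ n
  revert h1
  cases topologicalKrullDim X.scheme with
  | bot => simp
  | coe a => intro h1; exact ENat.toNat_le_of_le_coe (WithBot.coe_le_coe.1 h1)

lemma exists_pdim_eq_dim (X : Obj V) [Nonempty X.scheme] :
    ∃ x : X.scheme, pdim X.scheme x = dim X.scheme := by
  by_contra hc
  push Not at hc
  have hlt : ∀ x : X.scheme, pdim X.scheme x < dim X.scheme := fun x =>
    lt_of_le_of_ne (pdim_le_dim X x) (hc x)
  obtain ⟨x₀⟩ := ‹Nonempty X.scheme›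
  have h0 := hlt x₀
  have := dim_le X (n := dim X.scheme - 1) fun x => by have := hlt x; omega
  omega

/-- A point of every smaller dimension below a given one. -/
lemma exists_pdim_eq (X : Obj V) (x : X.scheme) {n : ℕ} (h : n ≤ pdim X.scheme x) :
    ∃ y : X.scheme, x ⤳ y ∧ pdim X.scheme y = n := by
  obtain ⟨p, hp, hlen⟩ := Order.exists_series_of_height_eq_coe x (pdim_eq_height X x).symm
  refine ⟨p ⟨n, by omega⟩, ?_, ?_⟩
  · show p ⟨n, _⟩ ≤ x
    exact le_of_le_of_eq (p.monotone (Fin.le_last _)) hp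
  · have := Order.height_eq_index_of_length_eq_height_last (p := p)
      (by rw [hp, hlen]; exact pdim_eq_height X x) ⟨n, by omega⟩
    rw [← pdim_eq_height] at this
    exact_mod_cast this

lemma codim_le_iff (X : Obj V) (x : X.scheme) (j : ℕ) :
    codim X.scheme x ≤ j ↔ dim X.scheme ≤ pdim X.scheme x + j := by
  unfold codim; omega

lemma codim_add_pdim (X : Obj V) (x : X.scheme) :
    codim X.scheme x + pdim X.scheme x = dim X.scheme := by
  have := pdim_le_dim X x; unfold codim; omega

lemma codim_lt (X : Obj V) {x y : X.scheme} (h : x ⤳ y) (hne : x ≠ y) :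
    codim X.scheme x < codim X.scheme y := by
  have := pdim_lt X h hne
  have := codim_add_pdim X x
  have := codim_add_pdim X y
  omega

/-! ### The reduced closure of a point -/

lemma range_ptSubι (X : Obj V) (x : X.scheme) :
    Set.range (X.ptSubι x) = closure ({x} : Set X.scheme) := by
  rw [Scheme.IdealSheafData.range_subschemeι]
  exact Scheme.IdealSheafData.coe_support_vanishingIdeal (X := X.scheme) _

instance isReduced_ptSub (X : Obj V) (x : X.scheme) : IsReduced (X.ptSub x).scheme :=
  Groth.Agent.H17.isReduced_vanishingIdeal_subscheme _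

instance irreducible_ptSub (X : Obj V) (x : X.scheme) : IrreducibleSpace (X.ptSub x).scheme := by
  let e : (X.ptSub x).scheme ≃ₜ closure ({x} : Set X.scheme) :=
    (X.ptSubι x).isClosedEmbedding.isEmbedding.toHomeomorph.trans (Homeomorph.setCongr (range_ptSubι X x))
  haveI : IrreducibleSpace (closure ({x} : Set X.scheme)) :=
    isIrreducible_iff_irreducibleSpace.mp isIrreducible_singleton.closure
  exact e.symm.surjective.irreducibleSpace e.symm.continuous

lemma exists_ptGen (X : Obj V) (x : X.scheme) : ∃ g, X.ptSubι x g = x := by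
  show x ∈ Set.range (X.ptSubι x)
  rw [range_ptSubι]
  exact subset_closure rfl

/-- The generic point of the closure of `x`. -/
noncomputable def ptGen (X : Obj V) (x : X.scheme) : (X.ptSub x).scheme := (exists_ptGen X x).choose

@[simp]
lemma ptSubι_ptGen (X : Obj V) (x : X.scheme) : X.ptSubι x (ptGen X x) = x :=
  (exists_ptGen X x).choose_spec

lemma specializes_ptSubι (X : Obj V) (x : X.scheme) (z : (X.ptSub x).scheme) :
    x ⤳ X.ptSubι x z :=
  specializes_iff_mem_closure.2 (range_ptSubι X x ▸ Set.mem_range_self z)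

lemma ptGen_mem (X : Obj V) (x : X.scheme) {W : (X.ptSub x).scheme.Opens}
    (hW : (W : Set (X.ptSub x).scheme).Nonempty) : ptGen X x ∈ W := by
  obtain ⟨z, hz⟩ := hW
  have h : ptGen X x ⤳ z := by
    rw [← (X.ptSubι x).isClosedEmbedding.isEmbedding.isInducing.specializes_iff, ptSubι_ptGen]
    exact specializes_ptSubι X x z
  exact h.mem_open W.2 hz

lemma dim_ptSub (X : Obj V) (x : X.scheme) : dim (X.ptSub x).scheme = pdim X.scheme x :=
  natDim_eq_of_range_eq (X.ptSubι x).isClosedEmbedding.isEmbedding IsEmbedding.subtypeVal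
    (by rw [range_ptSubι, Subtype.range_coe])

lemma dim_open_ptSub (X : Obj V) (x : X.scheme) (W : (X.ptSub x).scheme.Opens)
    (hW : (W : Set (X.ptSub x).scheme).Nonempty) : dim (W : Scheme.{u}) = pdim X.scheme x :=
  (IsConstructible.dim_open (X.ptSub x).mem (irreducible_ptSub X x) W hW).trans (dim_ptSub X x)

/-- Open immersions preserve the dimensions of points. -/
lemma pdim_openImm (X Y : Obj V) (f : Y.scheme ⟶ X.scheme) [IsOpenImmersion f] (y : Y.scheme) :
    pdim Y.scheme y = pdim X.scheme (f y) := by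
  let W : (X.ptSub (f y)).scheme.Opens := X.ptSubι (f y) ⁻¹ᵁ f.opensRange
  have hW : ptGen X (f y) ∈ W := by
    show X.ptSubι (f y) (ptGen X (f y)) ∈ f.opensRange
    rw [ptSubι_ptGen]
    exact ⟨y, rfl⟩
  rw [← dim_open_ptSub X (f y) W ⟨_, hW⟩]
  refine natDim_eq_of_range_eq (f := fun z : closure ({y} : Set Y.scheme) => f z.1)
    (g := fun z : (W : Scheme.{u}) => (W.ι ≫ X.ptSubι (f y)) z)
    (f.isOpenEmbedding.isEmbedding.comp IsEmbedding.subtypeVal)
    (W.ι ≫ X.ptSubι (f y)).isEmbedding ?_
  ext p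
  constructor
  · rintro ⟨⟨z, hz⟩, rfl⟩
    have h1 : f z ∈ Set.range (X.ptSubι (f y)) := by
      rw [range_ptSubι, ← specializes_iff_mem_closure]
      exact (specializes_iff_mem_closure.2 hz).map f.continuous
    obtain ⟨w, hw⟩ := h1
    refine ⟨⟨w, ?_⟩, hw⟩
    show X.ptSubι (f y) w ∈ f.opensRange
    rw [hw]
    exact ⟨z, rfl⟩
  · rintro ⟨⟨w, hw⟩, rfl⟩
    obtain ⟨z, hz⟩ := hw
    refine ⟨⟨z, ?_⟩, hz⟩
    rw [← specializes_iff_mem_closure, ← f.isOpenEmbedding.isEmbedding.isInducing.specializes_iff, hz]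
    exact specializes_ptSubι X _ w

/-- Closed immersions preserve the dimensions of points. -/
lemma pdim_closedImm (X Y : Obj V) (f : Y.scheme ⟶ X.scheme) [IsClosedImmersion f] (y : Y.scheme) :
    pdim Y.scheme y = pdim X.scheme (f y) := by
  refine natDim_eq_of_range_eq (f := fun z : closure ({y} : Set Y.scheme) => f z.1)
    (f.isClosedEmbedding.isEmbedding.comp IsEmbedding.subtypeVal) IsEmbedding.subtypeVal ?_
  rw [Set.range_comp' f Subtype.val, Subtype.range_coe, ← f.isClosedEmbedding.closure_image_eq,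
    Set.image_singleton, Subtype.range_coe]

lemma pdim_res (X : Obj V) (U : X.scheme.Opens) (z : (X.res U).scheme) :
    pdim (X.res U).scheme z = pdim X.scheme (U.ι z) :=
  pdim_openImm X (X.res U) U.ι z

lemma dim_res_le (X : Obj V) (U : X.scheme.Opens) : dim (U : Scheme.{u}) ≤ dim X.scheme :=
  dim_le (X.res U) fun z => (pdim_res X U z).trans_le (pdim_le_dim X _)

lemma pdim_le_dim_res (X : Obj V) (U : X.scheme.Opens) {y : X.scheme} (hy : y ∈ U) :
    pdim X.scheme y ≤ dim (U : Scheme.{u}) :=
  (pdim_res X U ⟨y, hy⟩).symm.trans_le (pdim_le_dim (X.res U) _)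

lemma dim_res_eq (X : Obj V) (U : X.scheme.Opens)
    (h : ∀ y : X.scheme, codim X.scheme y = 0 → y ∈ U) : dim (U : Scheme.{u}) = dim X.scheme := by
  refine le_antisymm (dim_res_le X U) ?_
  by_cases hne : Nonempty X.scheme
  · obtain ⟨x, hx⟩ := exists_pdim_eq_dim X
    exact hx ▸ pdim_le_dim_res X U (h x (by have := codim_add_pdim X x; omega))
  · exact dim_le X fun x => absurd ⟨x⟩ hne

lemma codim_openImm {X Y : Obj V} (f : Y ⟶ X) (y : Y.scheme) :
    codim Y.scheme y = codim X.scheme (f.hom y) := by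
  unfold codim
  rw [pdim_openImm X Y f.hom y, f.dim_eq]

/-! ### Closed sets -/

/-- The points outside the closure of a maximal point of a closed set can be separated from it. -/
lemma exists_rest (X : Obj V) {Z : Set X.scheme} (hZ : IsClosed Z) {x : X.scheme}
    (hx : ∀ g ∈ Z, g ⤳ x → g = x) :
    ∃ C : Set X.scheme, IsClosed C ∧ C ⊆ Z ∧ Z ⊆ C ∪ closure {x} ∧ x ∉ C := by
  obtain ⟨S, hSf, hSc, hSi, hSe⟩ := NoetherianSpace.exists_finite_set_isClosed_irreducible hZ
  refine ⟨⋃₀ {s ∈ S | x ∉ s}, (Set.sUnion_eq_biUnion (s := {s ∈ S | x ∉ s})).symm ▸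
    (hSf.subset (Set.sep_subset _ _)).isClosed_biUnion fun s hs => hSc s hs.1,
    hSe ▸ Set.sUnion_mono (Set.sep_subset _ _), ?_, fun ⟨s, hs, hxs⟩ => hs.2 hxs⟩
  intro z hz
  rw [hSe] at hz
  obtain ⟨s, hs, hzs⟩ := hz
  by_cases hxs : x ∈ s
  · right
    have hg := (hSi s hs).isGenericPoint_genericPoint (hSc s hs)
    have : (hSi s hs).genericPoint = x :=
      hx _ (hSe ▸ ⟨s, hs, hg.mem⟩) (hg.specializes hxs)
    rw [this] at hg
    rwa [hg.def]
  · exact Or.inl ⟨s, ⟨hs, hxs⟩, hzs⟩

/-- There are finitely many maximal points in a closed set. -/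
lemma finite_maximal (X : Obj V) {Z : Set X.scheme} (hZ : IsClosed Z) :
    {x | x ∈ Z ∧ ∀ g ∈ Z, g ⤳ x → g = x}.Finite := by
  obtain ⟨S, hSf, hSc, hSi, hSe⟩ := NoetherianSpace.exists_finite_set_isClosed_irreducible hZ
  haveI := hSf.to_subtype
  refine (Set.finite_range fun s : S => (hSi s.1 s.2).genericPoint).subset ?_
  rintro x ⟨hx, hmax⟩
  rw [hSe] at hx
  obtain ⟨s, hs, hxs⟩ := hx
  have hg := (hSi s hs).isGenericPoint_genericPoint (hSc s hs)
  exact ⟨⟨s, hs⟩, hmax _ (hSe ▸ ⟨s, hs, hg.mem⟩) (hg.specializes hxs)⟩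

/-- A closed set none of whose points has small codimension. -/
lemma maximal_of_codim (X : Obj V) {Z : Set X.scheme} {j : ℕ}
    (hZ : ∀ z ∈ Z, j < codim X.scheme z) {x : X.scheme} (hx : codim X.scheme x = j + 1) :
    ∀ g ∈ Z, g ⤳ x → g = x := fun g hg hgx => by
  by_contra hne
  have := codim_lt X hgx hne
  have := hZ g hg
  omega

end Groth.Agent.H26BMCoh
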