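import Groth.Agent.H26BMCoh.Steps

/-!
# Consequences of the steps: uniqueness, exactness and bijectivity criteria
-/

set_option autoImplicit false
set_option linter.style.haveILetI false

universe u

open AlgebraicGeometry CategoryTheory CategoryTheory.Limits TopologicalSpace Topology Opposite

namespace Groth.Agent.H26BMCoh

open BMCoh WeilCoh

variable {V : ObjectProperty Scheme.{u}} [IsConstructible V] {R : Type u} [CommRing R] {A : Coefs R}
  (T : PreTheory V R A)

/-- A class of a point lives on the trace of an open containing `F_m`. -/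
lemma exists_rep_pre {X : Obj V} {m : ℕ} (x : X.cdPt m) (M : A.Cat) (i n : ℤ)
    (a : T.ptGp X x.1 M i n) :
    ∃ (U : X.scheme.Opens) (hU : ContainsFj X m U)
      (c : T.gp ((X.ptSub x.1).res (X.ptSubι x.1 ⁻¹ᵁ U)) M i n),
      ((T.ptι X x.1 i n (preIdx X x.1 U (hU _ x.2.le))).app M).hom c = a := by
  obtain ⟨⟨W, hW, hWd⟩, c, rfl⟩ := exists_rep (T := T) (Good.pt X x.1) M i n a
  let U := cut (X.ptSubι x.1) ⊤ W
  have hU : ContainsFj X m U := containsFj_cut x le_rfl (Vo := ⊤) (fun _ _ => trivial) hW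
  have hle : X.ptSubι x.1 ⁻¹ᵁ U ≤ W := by rw [preimage_cut]; exact inf_le_right
  exact ⟨U, hU, _, ι_res (T := T) (U := preIdx X x.1 U (hU _ x.2.le))
    (U' := ⟨W, hW, hWd⟩) hle ((preIdx X x.1 U (hU _ x.2.le)).2.2.trans hWd.symm) M i n c⟩

/-- A pushed class only depends on its class at the point. -/
lemma fjι_push_eq_zero {X : Obj V} {m : ℕ} (x : X.cdPt m) {U : X.scheme.Opens}
    (hU : ContainsFj X m U) (M : A.Cat) (i n i' n' : ℤ) (hi hn)
    (c : T.gp ((X.ptSub x.1).res (X.ptSubι x.1 ⁻¹ᵁ U)) M i n)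
    (h : ((T.ptι X x.1 i n (preIdx X x.1 U (hU _ x.2.le))).app M).hom c = 0) :
    ((T.fjι X m i' n' (fjIdx X U hU)).app M).hom
      ((T.push (X.ptSubι x.1 ∣_ U) M i n i' n' hi hn).hom c) = 0 := by
  obtain ⟨⟨W, hW, hWd⟩, hle, hc⟩ :=
    (eq_zero_iff (T := T) (U := preIdx X x.1 U (hU _ x.2.le)) (Good.pt X x.1) M i n c).1 h
  let U' := cut (X.ptSubι x.1) U W
  have hU' : ContainsFj X m U' := containsFj_cut x le_rfl hU hW
  have dU := (Good.fj X m).dim U hU
  have dU' := (Good.fj X m).dim U' hU'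
  have hxU' : x.1 ∈ U' := hU' _ x.2.le
  have c0 := relCodim_preimage X x (hU _ x.2.le) dU
  have c1 := relCodim_preimage X x hxU' dU'
  have dW := dim_open_ptSub X x.1 W hW
  have dW' := dim_open_ptSub X x.1 _ (nonempty_preimage_ptSub hxU')
  have dW0 := dim_open_ptSub X x.1 _ (nonempty_preimage_ptSub (hU _ x.2.le))
  have hle' : X.ptSubι x.1 ⁻¹ᵁ U' ≤ W := by rw [preimage_cut]; exact inf_le_right
  have hcut : U' ≤ U := cut_le _ _ _
  have hz : (T.pull ((X.ptSub x.1).resLE ((X.ptSubι x.1).preimage_mono hcut) (dW'.trans dW0.symm))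
      M i n).hom c = 0 := by
    rw [← pull_resLE_resLE T (X.ptSub x.1) hle' hle (dW'.trans dW.symm) (dW.trans dW0.symm)]
    exact (congrArg _ hc).trans (map_zero _)
  refine (eq_zero_iff (T := T) (U := fjIdx X U hU) (Good.fj X m) M i' n' _).2
    ⟨fjIdx X U' hU', hcut, ?_⟩
  refine (pull_push_restrict T (X.ptSubι x.1) hcut _ (dW'.trans dW0.symm) M i n i' n' hi hn
    (by rw [c1]; rw [c0] at hi; exact hi) (by rw [c1]; rw [c0] at hn; exact hn) c).trans ?_
  exact (congrArg _ hz).trans (map_zero _)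

/-- Classes pushed from a point of codimension `j + 1` die on `F_j`. -/
lemma fjRes_push_eq_zero {X : Obj V} {j : ℕ} (x : X.cdPt (j + 1)) {U : X.scheme.Opens}
    (hU : ContainsFj X (j + 1) U) (M : A.Cat) (i n i' n' : ℤ) (hi hn)
    (c : T.gp ((X.ptSub x.1).res (X.ptSubι x.1 ⁻¹ᵁ U)) M i n) :
    ((T.fjRes X (Nat.le_succ j) i' n').app M).hom (((T.fjι X (j + 1) i' n' (fjIdx X U hU)).app M).hom
      ((T.push (X.ptSubι x.1 ∣_ U) M i n i' n' hi hn).hom c)) = 0 := by
  rw [fjRes_ι]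
  have hU' : ContainsFj X j (remove X U x.1) := containsFj_remove x (containsFj_mono X (Nat.le_succ j) U hU)
  have hd := ((Good.fj X j).dim _ hU').trans ((Good.fj X (j + 1)).dim U hU).symm
  refine (eq_zero_iff (T := T) (U := fjIdx X U (containsFj_mono X (Nat.le_succ j) U hU)) (Good.fj X j) M i' n' _).2
    ⟨fjIdx X _ hU', remove_le X U x.1, ?_⟩
  exact pull_push_eq_zero T (lDec (X.ptSubι x.1) (remove X U x.1) U rfl hd) M i' n' i n hi hn c

/-- Residues of classes coming from `F_{j+1}` vanish. -/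
lemma resCpt_fjRes {X : Obj V} {j : ℕ} (Q : T.ResData X j) (x : X.cdPt (j + 1)) (M : A.Cat) (i n i' n' : ℤ)
    (hi : i' = i + 1 - 2 * ((j : ℤ) + 1)) (hn : n' = n - ((j : ℤ) + 1)) (β : T.fjGp X (j + 1) M i n) :
    (Q.cpt x M i n i' n' hi hn).hom (((T.fjRes X (Nat.le_succ j) i n).app M).hom β) = 0 := by
  obtain ⟨⟨U, hU, hUd⟩, b, rfl⟩ := exists_rep (T := T) (Good.fj X (j + 1)) M i n β
  rw [fjRes_ι]
  have hU' : ContainsFj X j (remove X U x.1) := containsFj_remove x (containsFj_mono X (Nat.le_succ j) U hU)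
  have hd := ((Good.fj X j).dim _ hU').trans ((Good.fj X (j + 1)).dim U hU).symm
  have hc := codim_lDec X x (U := remove X U x.1) (Vo := U) rfl hd (hU _ x.2.le) hUd
  refine (congrArg (Q.cpt x M i n i' n' hi hn).hom (ι_res (T := T) (U := fjIdx X _ hU')
    (U' := ⟨U, containsFj_mono X (Nat.le_succ j) U hU, hUd⟩) (remove_le X U x.1) hd M i n b)).symm.trans ?_
  rw [resData_eval Q x hU' (hU _ x.2.le) rfl hd M i n i' n' hi hn
    (by rw [hc]; push_cast; exact hi) (by rw [hc]; push_cast; exact hn)]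
  exact (congrArg _ (res_pull_eq_zero T (lDec (X.ptSubι x.1) (remove X U x.1) U rfl hd) M i n i' n'
    _ _ b)).trans (map_zero _)

theorem exact_fjRes_resTot {X : Obj V} {j : ℕ} (Q : T.ResData X j) (M : A.Cat) (i n i' n' : ℤ)
    (hi : i' = i + 1 - 2 * ((j : ℤ) + 1)) (hn : n' = n - ((j : ℤ) + 1)) :
    Function.Exact ((T.fjRes X (Nat.le_succ j) i n).app M).hom (Q.tot M i n i' n' hi hn).hom := by
  intro α
  constructor
  · intro h
    refine mem_range_fjRes T X j M i n i' n' hi hn α fun x U Vo hU hx hUV hd hi' hn' a ha => ?_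
    rw [← resData_eval Q x hU hx hUV hd M i n i' n' hi hn hi' hn' a, ha, ← PreTheory.ResData.tot_apply, h]
    rfl
  · rintro ⟨β, rfl⟩
    refine DFinsupp.ext fun x => ?_
    exact (PreTheory.ResData.tot_apply Q M i n i' n' hi hn _ x).trans (resCpt_fjRes T Q x M i n i' n' hi hn β)

theorem exact_pushTot_fjRes {X : Obj V} {j : ℕ} (P : T.PushData X (j + 1)) (M : A.Cat) (i n i' n' : ℤ)
    (hi : i' = i + 2 * ((j + 1 : ℕ) : ℤ)) (hn : n' = n + ((j + 1 : ℕ) : ℤ)) :
    Function.Exact (P.tot M i n i' n' hi hn).hom ((T.fjRes X (Nat.le_succ j) i' n').app M).hom := by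
  classical
  intro α
  constructor
  · intro h
    refine ker_fjRes_le T X j M i n i' n' hi hn (LinearMap.range (P.tot M i n i' n' hi hn).hom)
      (fun x U hU hi' hn' c => ⟨DirectSum.lof R (X.cdPt (j + 1)) (fun y : X.cdPt (j + 1) => T.ptGp X y.1 M i n) x
        (((T.ptι X x.1 i n (preIdx X x.1 U (hU _ x.2.le))).app M).hom c), ?_⟩) α h
    rw [PreTheory.PushData.tot_lof]
    exact pushData_eval P x hU (hU _ x.2.le) M i n i' n' hi hn hi' hn' c
  · rintro ⟨ξ, rfl⟩
    induction ξ using DirectSum.induction_on with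
    | zero => rw [map_zero, map_zero]
    | add a b ha hb => rw [map_add, map_add, ha, hb, add_zero]
    | of x a =>
      rw [← DirectSum.lof_eq_of R]
      obtain ⟨U, hU, c, rfl⟩ := exists_rep_pre T x M i n a
      have c0 := relCodim_preimage X x (hU _ x.2.le) ((Good.fj X (j + 1)).dim U hU)
      rw [PreTheory.PushData.tot_lof, pushData_eval P x hU (hU _ x.2.le) M i n i' n' hi hn
        (by rw [c0]; exact hi) (by rw [c0]; exact hn) c]
      exact fjRes_push_eq_zero T x hU M i n i' n' _ _ c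

theorem subsingleton_pushData (X : Obj V) (j : ℕ) : Subsingleton (T.PushData X j) := by
  refine ⟨fun P P' => ?_⟩
  suffices h : P.cpt = P'.cpt by
    cases P; cases P'; subst h; rfl
  funext x M i n i' n' hi hn
  refine ModuleCat.hom_ext (LinearMap.ext fun a => ?_)
  obtain ⟨U, hU, c, rfl⟩ := exists_rep_pre T x M i n a
  have c0 := relCodim_preimage X x (hU _ x.2.le) ((Good.fj X j).dim U hU)
  rw [pushData_eval P x hU _ M i n i' n' hi hn (by rw [c0]; exact hi) (by rw [c0]; exact hn) c,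
    pushData_eval P' x hU _ M i n i' n' hi hn (by rw [c0]; exact hi) (by rw [c0]; exact hn) c]

theorem subsingleton_resData (X : Obj V) (j : ℕ) : Subsingleton (T.ResData X j) := by
  refine ⟨fun Q Q' => ?_⟩
  suffices h : Q.cpt = Q'.cpt by
    cases Q; cases Q'; subst h; rfl
  funext x M i n i' n' hi hn
  refine ModuleCat.hom_ext (LinearMap.ext fun a => ?_)
  obtain ⟨⟨U₀, hU₀, hU₀d⟩, a₀, rfl⟩ := exists_rep (T := T) (Good.fj X j) M i n a
  have hU : ContainsFj X j (remove X U₀ x.1) := containsFj_remove x hU₀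
  have dU := (Good.fj X j).dim _ hU
  have hxU : x.1 ∉ remove X U₀ x.1 := fun h => h.2 ⟨ptGen X x.1, ptSubι_ptGen X x.1⟩
  obtain ⟨V0, hxV0, -, hUV0, hUV⟩ := exists_add x hU (le_top : _ ≤ ⊤) trivial hxU
  have dV0 := (Good.fj X j).dim V0 fun y hy => hUV0 (hU y hy)
  have hc := codim_lDec X x hUV (dU.trans dV0.symm) hxV0 dV0
  have he := ι_res (T := T) (U := fjIdx X _ hU) (U' := ⟨U₀, hU₀, hU₀d⟩) (remove_le X U₀ x.1)
    (dU.trans hU₀d.symm) M i n a₀
  rw [← he]
  erw [resData_eval Q x hU hxV0 hUV _ M i n i' n' hi hn (by rw [hc]; push_cast; exact hi)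
    (by rw [hc]; push_cast; exact hn), resData_eval Q' x hU hxV0 hUV _ M i n i' n' hi hn
    (by rw [hc]; push_cast; exact hi) (by rw [hc]; push_cast; exact hn)]

/-- Bijectivity from the vanishing of the groups of the points. -/
theorem fjRes_bijective (X : Obj V) (j : ℕ) (M : A.Cat) (i n : ℤ)
    (h0 : ∀ x : X.cdPt (j + 1), IsZero (T.ptGp X x.1 M (i - 2 * ((j : ℤ) + 1)) (n - ((j : ℤ) + 1))))
    (h1 : ∀ x : X.cdPt (j + 1), IsZero (T.ptGp X x.1 M (i + 1 - 2 * ((j : ℤ) + 1)) (n - ((j : ℤ) + 1)))) :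
    Function.Bijective ((T.fjRes X (Nat.le_succ j) i n).app M).hom := by
  refine ⟨fun a b hab => sub_eq_zero.1 ((Submodule.mem_bot R).1 ?_), fun α => ?_⟩
  · refine ker_fjRes_le T X j M (i - 2 * ((j : ℤ) + 1)) (n - ((j : ℤ) + 1)) i n (by push_cast; ring)
      (by push_cast; ring) ⊥ (fun x U hU hi' hn' c => ?_) (a - b) (by rw [map_sub, hab, sub_self])
    haveI := ModuleCat.subsingleton_of_isZero (h0 x)
    exact (Submodule.mem_bot R).2 (fjι_push_eq_zero T x hU M _ _ i n hi' hn' c (Subsingleton.elim _ _))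
  · refine mem_range_fjRes T X j M i n _ _ rfl rfl α fun x U Vo hU hx hUV hd hi' hn' a ha => ?_
    haveI := ModuleCat.subsingleton_of_isZero (h1 x)
    exact Subsingleton.elim _ _

lemma fjRes_trans (X : Obj V) {j k m : ℕ} (h : j ≤ k) (h' : k ≤ m) (M : A.Cat) (i n : ℤ)
    (a : T.fjGp X m M i n) :
    ((T.fjRes X h i n).app M).hom (((T.fjRes X h' i n).app M).hom a) =
      ((T.fjRes X (h.trans h') i n).app M).hom a := by
  obtain ⟨U, b, rfl⟩ := exists_rep (T := T) (Good.fj X m) M i n a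
  rw [fjRes_ι, fjRes_ι, fjRes_ι]

lemma pull_bijective_of_iso {X Y : Obj V} (f : X ⟶ Y) (g : Y ⟶ X) (hfg : f ≫ g = 𝟙 X) (hgf : g ≫ f = 𝟙 Y)
    (M : A.Cat) (i n : ℤ) : Function.Bijective (T.pull f M i n).hom :=
  Function.bijective_iff_has_inverse.2 ⟨(T.pull g M i n).hom,
    fun a => by rw [pull_pull, hgf, pull_id], fun a => by rw [pull_pull, hfg, pull_id]⟩

lemma fjRes_toFj (X : Obj V) {j k : ℕ} (h : j ≤ k) (M : A.Cat) (i n : ℤ) (a : T.gp X M i n) :
    ((T.fjRes X h i n).app M).hom (((T.toFj X k i n).app M).hom a) = ((T.toFj X j i n).app M).hom a :=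
  fjRes_ι (T := T) X h M i n _ _

theorem toFj_bijective_of_dim_le (X : Obj V) (m : ℕ) (hm : dim X.scheme ≤ m) (M : A.Cat) (i n : ℤ) :
    Function.Bijective ((T.toFj X m i n).app M).hom := by
  have hall : ∀ U : X.scheme.Opens, ContainsFj X m U → (⊤ : X.scheme.Opens) ≤ U := fun U hU y _ =>
    hU y ((Nat.sub_le _ _).trans hm)
  let T₀ : Idx X (ContainsFj X m) := ⟨⊤, fun _ _ => trivial, dim_top X.scheme⟩
  have hι : Function.Bijective ((T.fjι X m i n T₀).app M).hom := by
    constructor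
    · intro a b hab
      refine sub_eq_zero.1 ?_
      obtain ⟨U, hle, h0⟩ := (eq_zero_iff (T := T) (U := T₀) (Good.fj X m) M i n (a - b)).1
        (by rw [map_sub, hab, sub_self])
      have h := congrArg (T.pull (X.resLE (hall _ U.2.1) (T₀.2.2.trans U.2.2.symm)) M i n).hom h0
      rw [map_zero, pull_resLE_resLE T X _ _ _ _ rfl] at h
      rwa [pull_resLE_self] at h
    · intro α
      obtain ⟨U, b, rfl⟩ := exists_rep (T := T) (Good.fj X m) M i n α
      exact ⟨_, ι_res (T := T) (U := T₀) (U' := U) (hall _ U.2.1) (T₀.2.2.trans U.2.2.symm) M i n b⟩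
  have hp : Function.Bijective (T.pull X.resTop M i n).hom :=
    pull_bijective_of_iso T X.resTop (⟨X.scheme.topIso.inv, inferInstance, (dim_top X.scheme).symm⟩ : X ⟶ X.res ⊤)
      (Hom.ext X.scheme.topIso.hom_inv_id) (Hom.ext X.scheme.topIso.inv_hom_id) M i n
  exact hι.comp hp

theorem toFj_bijective (X : Obj V) (M : A.Cat) (i n : ℤ)
    (hvan : ∀ (x : X.scheme) (i n : ℤ), i < 0 → IsZero (T.ptGp X x M i n)) (j : ℕ)
    (hj : i ≤ 2 * (j : ℤ)) : Function.Bijective ((T.toFj X j i n).app M).hom := by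
  induction h : dim X.scheme - j generalizing j with
  | zero => exact toFj_bijective_of_dim_le T X j (by omega) M i n
  | succ k ih =>
    have hb := fjRes_bijective T X j M i n (fun x => hvan _ _ _ (by omega)) fun x => hvan _ _ _ (by omega)
    have hc := hb.comp (ih (j + 1) (by push_cast; omega) (by omega))
    convert hc using 1
    funext a
    exact (fjRes_toFj T X (Nat.le_succ j) M i n a).symm

end Groth.Agent.H26BMCoh
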