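import Groth.Agent.H26BMCoh.Union
import Groth.Agent.H26BMCoh.Maps

/-!
# Exactness at the sum of the groups of the points
-/

set_option autoImplicit false
set_option linter.style.haveILetI false

universe u

open AlgebraicGeometry CategoryTheory CategoryTheory.Limits TopologicalSpace Topology Opposite

namespace Groth.Agent.H26BMCoh

open BMCoh WeilCoh

variable {V : ObjectProperty Scheme.{u}} [IsConstructible V] {R : Type u} [CommRing R] {A : Coefs R}
  {T : PreTheory V R A}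

/-- The residue at a point of a class defined there vanishes. -/
lemma resCpt_of_mem {X : Obj V} {j : ℕ} (Q : T.ResData X j) (x : X.cdPt (j + 1)) {U : X.scheme.Opens}
    (hU : ContainsFj X j U) (hx : x.1 ∈ U) (M : A.Cat) (i n i' n' : ℤ)
    (hi : i' = i + 1 - 2 * ((j : ℤ) + 1)) (hn : n' = n - ((j : ℤ) + 1)) (a : T.gp (X.res U) M i n) :
    (Q.cpt x M i n i' n' hi hn).hom (((T.fjι X j i n (fjIdx X U hU)).app M).hom a) = 0 := by
  have hU' : ContainsFj X j (remove X U x.1) := containsFj_remove x hU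
  have hd := ((Good.fj X j).dim _ hU').trans ((Good.fj X j).dim U hU).symm
  have hc := codim_lDec X x (U := remove X U x.1) (Vo := U) rfl hd hx ((Good.fj X j).dim U hU)
  refine (congrArg (Q.cpt x M i n i' n' hi hn).hom (ι_res (T := T) (U := fjIdx X _ hU')
    (U' := fjIdx X U hU) (remove_le X U x.1) hd M i n a)).symm.trans ?_
  rw [resData_eval Q x hU' hx rfl hd M i n i' n' hi hn (by rw [hc]; push_cast; exact hi)
    (by rw [hc]; push_cast; exact hn)]
  exact (congrArg _ (res_pull_eq_zero T (lDec (X.ptSubι x.1) (remove X U x.1) U rfl hd) M i n i' n'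
    _ _ a)).trans (map_zero _)

/-- The open where the closures of finitely many points of the same codimension are disjoint. -/
noncomputable def disjOpen {X : Obj V} {m : ℕ} (S : Finset (X.cdPt m)) : X.scheme.Opens :=
  ⟨(⋃ p ∈ {p ∈ ((S ×ˢ S : Finset _) : Set (X.cdPt m × X.cdPt m)) | p.1 ≠ p.2},
      closure ({p.1.1} : Set X.scheme) ∩ closure {p.2.1})ᶜ,
    (((S ×ˢ S).finite_toSet.subset (Set.sep_subset _ _)).isClosed_biUnion
      fun _ _ => isClosed_closure.inter isClosed_closure).isOpen_compl⟩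

lemma mem_disjOpen {X : Obj V} {m : ℕ} {S : Finset (X.cdPt m)} {z : X.scheme} :
    z ∈ disjOpen S ↔ ∀ x ∈ S, ∀ y ∈ S, x.1 ⤳ z → y.1 ⤳ z → x = y := by
  show z ∉ (⋃ p ∈ {p ∈ ((S ×ˢ S : Finset _) : Set (X.cdPt m × X.cdPt m)) | p.1 ≠ p.2},
      closure ({p.1.1} : Set X.scheme) ∩ closure {p.2.1}) ↔ _
  simp only [Set.mem_iUnion₂, Set.mem_setOf_eq, Finset.mem_coe, Finset.mem_product, Set.mem_inter_iff,
    ← specializes_iff_mem_closure, not_exists, exists_prop, not_and]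
  exact ⟨fun h x hx y hy hxz hyz => by_contra fun hne => h (x, y) ⟨⟨hx, hy⟩, hne⟩ hxz hyz,
    fun h p hp hpz hqz => hp.2 (h p.1 hp.1.1 p.2 hp.1.2 hpz hqz)⟩

lemma eq_of_specializes_cdPt {X : Obj V} {m : ℕ} {x y : X.cdPt m} (h : x.1 ⤳ y.1) : x = y := by
  by_contra hne
  have := codim_lt X h fun e => hne (Subtype.ext e)
  have := x.2
  have := y.2
  omega

lemma eq_of_specializes_of_codim {X : Obj V} {m : ℕ} (x : X.cdPt m) {z : X.scheme} (h : x.1 ⤳ z)
    (hz : codim X.scheme z ≤ m) : x.1 = z := by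
  by_contra hne
  have := codim_lt X h hne
  have := x.2
  omega

lemma containsFj_disjOpen {X : Obj V} {m : ℕ} (S : Finset (X.cdPt m)) : ContainsFj X m (disjOpen S) :=
  fun z hz => mem_disjOpen.2 fun x _ y _ hxz hyz =>
    Subtype.ext ((eq_of_specializes_of_codim x hxz hz).trans (eq_of_specializes_of_codim y hyz hz).symm)

/-- The open complement of the closures of the points inside an open. -/
noncomputable def removeU {X : Obj V} {m : ℕ} (Vo : X.scheme.Opens) (S : Finset (X.cdPt m)) : X.scheme.Opens :=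
  Vo ⊓ ⟨(Set.range (uι S))ᶜ, (uι S).isClosedEmbedding.isClosed_range.isOpen_compl⟩

lemma containsFj_removeU {X : Obj V} {j : ℕ} {Vo : X.scheme.Opens} (hV : ContainsFj X j Vo)
    (S : Finset (X.cdPt (j + 1))) : ContainsFj X j (removeU Vo S) := fun z hz => by
  refine ⟨hV z hz, fun h => ?_⟩
  obtain ⟨x, -, hxz⟩ := mem_range_uι.1 h
  have he := eq_of_specializes_of_codim x hxz (by omega)
  have := x.2
  rw [← he] at hz
  omega

lemma coe_removeU_others {X : Obj V} {m : ℕ} {Vo : X.scheme.Opens} {S : Finset (X.cdPt m)}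
    {x : X.cdPt m} (hx : x ∈ S) {U : X.scheme.Opens}
    (hUV : (U : Set X.scheme) = (Vo : Set X.scheme) \ Set.range (uι S)) :
    (U : Set X.scheme) = ((Vo ⊓ others S x : X.scheme.Opens) : Set X.scheme) \ Set.range (X.ptSubι x.1) := by
  rw [hUV]
  ext z
  refine ⟨fun h => ⟨⟨h.1, mem_others.2 fun y hy hyz => absurd (mem_range_uι.2 ⟨y, hy, hyz⟩) h.2⟩,
    fun h' => h.2 (mem_range_uι.2 ⟨x, hx, mem_range_ptSubι.1 h'⟩)⟩, fun h => ⟨h.1.1, fun h' => ?_⟩⟩
  obtain ⟨y, hy, hyz⟩ := mem_range_uι.1 h'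
  exact h.2 (mem_range_ptSubι.2 (mem_others.1 h.1.2 y hy hyz ▸ hyz))

lemma relCodim_union {X : Obj V} {j : ℕ} {Vo : X.scheme.Opens} {S : Finset (X.cdPt j)}
    (hD : Disj S Vo) (hV : dim (Vo : Scheme.{u}) = dim X.scheme) {x : X.cdPt j} (hx : x ∈ S) :
    relCodim ((uObj S).res (uι S ⁻¹ᵁ Vo)).scheme (X.res Vo).scheme = (j : ℤ) := by
  show (dim (Vo : Scheme.{u}) : ℤ) - (dim ((uι S ⁻¹ᵁ Vo : _) : Scheme.{u}) : ℤ) = j
  rw [dim_preimage_uι hD hx, hV]
  have h1 := codim_add_pdim X x.1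
  rw [x.2] at h1
  omega

/-- The residue at `x` read on the union. -/
lemma resCpt_union {X : Obj V} {j : ℕ} (Q : T.ResData X j) {Vo U : X.scheme.Opens}
    {S : Finset (X.cdPt (j + 1))} (hD : Disj S Vo) {x : X.cdPt (j + 1)} (hx : x ∈ S)
    (hU : ContainsFj X j U) (hUV : (U : Set X.scheme) = (Vo : Set X.scheme) \ Set.range (uι S)) (hd)
    (M : A.Cat) (i n i' n' : ℤ)
    (hi : i' = i + 1 - 2 * ((j : ℤ) + 1)) (hn : n' = n - ((j : ℤ) + 1)) (hi' hn')
    (a : T.gp (X.res U) M i n) :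
    (Q.cpt x M i n i' n' hi hn).hom (((T.fjι X j i n (fjIdx X U hU)).app M).hom a) =
      ((T.ptι X x.1 i' n' (preIdx X x.1 Vo (hD.mem x hx))).app M).hom
        ((T.pull (piece hD hx) M i' n').hom
          ((T.res (lDec (uι S) U Vo hUV hd) M i n i' n' hi' hn').hom a)) := by
  have hUx := coe_removeU_others hx hUV
  have hxV : x.1 ∈ (Vo ⊓ others S x : X.scheme.Opens) :=
    ⟨hD.mem x hx, mem_others.2 fun y _ h => eq_of_specializes_cdPt h⟩
  have hle : U ≤ (Vo ⊓ others S x : X.scheme.Opens) := fun z hz => ((Set.ext_iff.1 hUx z).1 hz).1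
  have hVx : ContainsFj X j (Vo ⊓ others S x) := fun z hz => hle (hU z hz)
  have dV := (Good.fj X j).dim _ hVx
  have hdx := ((Good.fj X j).dim U hU).trans dV.symm
  have hc := codim_lDec X x hUx hdx hxV dV
  have hix : i' = i + 1 - 2 * (lDec (X.ptSubι x.1) U _ hUx hdx).codim := by
    rw [hc]; push_cast; exact hi
  have hnx : n' = n - (lDec (X.ptSubι x.1) U _ hUx hdx).codim := by
    rw [hc]; push_cast; exact hn
  have hW := nonempty_preimage_ptSub (Vo := Vo) (hD.mem x hx)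
  have hWx := nonempty_preimage_ptSub hxV
  have hdW := (dim_open_ptSub X x.1 _ hWx).trans (dim_open_ptSub X x.1 _ hW).symm
  rw [resData_eval Q x hU hxV hUx hdx M i n i' n' hi hn hix hnx a,
    ← pull_piece_res T hD hx hUV hd hUx hdx hdW M i n i' n' hi' hn' hix hnx a]
  exact ι_res (T := T) (U := preIdx X x.1 _ hxV) (U' := preIdx X x.1 Vo (hD.mem x hx))
    ((X.ptSubι x.1).preimage_mono inf_le_left) hdW M i' n' _

theorem resTot_pushTot {X : Obj V} {j : ℕ} (Q : T.ResData X j) (P : T.PushData X (j + 1))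
    (M : A.Cat) (i n i' n' : ℤ) (hi : i' = i + 1 - 2 * ((j : ℤ) + 1)) (hn : n' = n - ((j : ℤ) + 1))
    (hi2 : i + 1 = i' + 2 * ((j + 1 : ℕ) : ℤ)) (hn2 : n = n' + ((j + 1 : ℕ) : ℤ))
    (α : T.fjGp X j M i n) :
    (P.tot M i' n' (i + 1) n hi2 hn2).hom ((Q.tot M i n i' n' hi hn).hom α) = 0 := by
  classical
  obtain ⟨⟨U₀, hU₀, hU₀d⟩, a₀, rfl⟩ := exists_rep (T := T) (Good.fj X j) M i n α
  let α₀ := ((T.fjι X j i n ⟨U₀, hU₀, hU₀d⟩).app M).hom a₀
  let S : Finset (X.cdPt (j + 1)) := (finite_missing X hU₀).toFinset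
  have hS : ∀ x, x ∈ S ↔ x.1 ∉ U₀ := fun x => by simp [S]
  have hout : ∀ x, x ∉ S → (Q.cpt x M i n i' n' hi hn).hom α₀ = 0 := fun x hx =>
    resCpt_of_mem Q x hU₀ (not_not.1 fun h => hx ((hS x).2 h)) M i n i' n' hi hn a₀
  have hξ : (Q.tot M i n i' n' hi hn).hom α₀ = ∑ x ∈ S,
      DirectSum.lof R (X.cdPt (j + 1)) (fun y : X.cdPt (j + 1) => T.ptGp X y.1 M i' n') x
        ((Q.cpt x M i n i' n' hi hn).hom α₀) := by
    refine DFinsupp.ext fun y => ?_
    rw [PreTheory.ResData.tot_apply, DFinsupp.finsetSum_apply]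
    by_cases hy : y ∈ S
    · rw [Finset.sum_eq_single y]
      · exact (DirectSum.of_eq_same (β := fun y : X.cdPt (j + 1) => T.ptGp X y.1 M i' n') y _).symm
      · exact fun x _ hxy => DirectSum.of_eq_of_ne x y _ hxy.symm
      · exact fun h => absurd hy h
    · rw [hout y hy, Finset.sum_eq_zero]
      exact fun x hx => DirectSum.of_eq_of_ne x y _ fun e => hy (e ▸ hx)
  show (P.tot M i' n' (i + 1) n hi2 hn2).hom ((Q.tot M i n i' n' hi hn).hom α₀) = 0
  rw [hξ, map_sum]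
  rcases S.eq_empty_or_nonempty with hSe | ⟨x₀, hx₀⟩
  · rw [hSe, Finset.sum_empty]
  have hcod : ∀ z ∈ (U₀ : Set X.scheme)ᶜ, j < codim X.scheme z := fun z hz =>
    not_le.1 fun h => hz (hU₀ z h)
  choose C hC hCZ hZC hxC using fun x : S => exists_rest X U₀.2.isClosed_compl
    (maximal_of_codim X hcod x.1.2)
  let N : X.scheme.Opens :=
    ⟨((U₀ : Set X.scheme)ᶜ ∩ ⋂ x : S, C x)ᶜ, (U₀.2.isClosed_compl.inter (isClosed_iInter hC)).isOpen_compl⟩
  have hN : ContainsFj X (j + 1) N := fun z hz ⟨hzU, hzC⟩ => by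
    have h1 := hcod z hzU
    have hzS : (⟨z, by omega⟩ : X.cdPt (j + 1)) ∈ S := (hS _).2 hzU
    exact hxC ⟨_, hzS⟩ (Set.mem_iInter.1 hzC _)
  let Vo := N ⊓ disjOpen S
  have hV : ContainsFj X (j + 1) Vo := fun z hz => ⟨hN z hz, containsFj_disjOpen S z hz⟩
  have hD : Disj S Vo := ⟨fun x _ => hV _ x.2.le, fun x hx y hy z hz => mem_disjOpen.1 hz.2 x hx y hy⟩
  let U := Vo ⊓ U₀
  have hU : ContainsFj X j U := fun z hz => ⟨hV z (hz.trans j.le_succ), hU₀ z hz⟩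
  have hUV : (U : Set X.scheme) = (Vo : Set X.scheme) \ Set.range (uι S) := by
    ext z
    refine ⟨fun hz => ⟨hz.1, fun h => ?_⟩, fun hz => ⟨hz.1, by_contra fun hzU => ?_⟩⟩
    · obtain ⟨x, hx, hxz⟩ := mem_range_uι.1 h
      exact (hS x).1 hx (hxz.mem_open U₀.2 hz.2)
    · obtain ⟨x, hx⟩ : ∃ x : S, z ∉ C x := by
        by_contra hall
        push Not at hall
        exact hz.1.1 ⟨hzU, Set.mem_iInter.2 hall⟩
      exact hz.2 (mem_range_uι.2 ⟨x.1, x.2,
        specializes_iff_mem_closure.2 ((hZC x hzU).resolve_left hx)⟩)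
  have dV := (Good.fj X (j + 1)).dim Vo hV
  have dU := (Good.fj X j).dim U hU
  have hd := dU.trans dV.symm
  have hc : (lDec (uι S) U Vo hUV hd).codim = ((j + 1 : ℕ) : ℤ) := relCodim_union hD dV hx₀
  let a := (T.pull (X.resLE (inf_le_right : U ≤ U₀) (dU.trans hU₀d.symm)) M i n).hom a₀
  have ha : ((T.fjι X j i n (fjIdx X U hU)).app M).hom a = α₀ :=
    ι_res (T := T) (U := fjIdx X U hU) (U' := ⟨U₀, hU₀, hU₀d⟩) inf_le_right _ M i n a₀
  have hi' : i' = i + 1 - 2 * (lDec (uι S) U Vo hUV hd).codim := by rw [hc]; push_cast; exact hi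
  have hn' : n' = n - (lDec (uι S) U Vo hUV hd).codim := by rw [hc]; push_cast; exact hn
  let r := (T.res (lDec (uι S) U Vo hUV hd) M i n i' n' hi' hn').hom a
  have hk : i + 1 = i' + 2 * relCodim ((uObj S).res (uι S ⁻¹ᵁ Vo)).scheme (X.res Vo).scheme := by
    rw [relCodim_union hD dV hx₀]; exact hi2
  have hk' : n = n' + relCodim ((uObj S).res (uι S ⁻¹ᵁ Vo)).scheme (X.res Vo).scheme := by
    rw [relCodim_union hD dV hx₀]; exact hn2
  have hr : (T.push (uι S ∣_ Vo) M i' n' (i + 1) n hk hk').hom r = 0 :=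
    push_res_eq_zero T (lDec (uι S) U Vo hUV hd) M i n i' n' hi' hn' (i + 1) rfl hk hk' a
  have hx' : ∀ x ∈ S,
      i + 1 = i' + 2 * relCodim ((X.ptSub x.1).res (X.ptSubι x.1 ⁻¹ᵁ Vo)).scheme (X.res Vo).scheme ∧
      n = n' + relCodim ((X.ptSub x.1).res (X.ptSubι x.1 ⁻¹ᵁ Vo)).scheme (X.res Vo).scheme :=
    fun x hx => by rw [relCodim_preimage X x (hD.mem x hx) dV]; exact ⟨hi2, hn2⟩
  rw [push_union T hD M i' n' (i + 1) n hk hk' hx' r] at hr
  have h0 := congrArg ((T.fjι X (j + 1) (i + 1) n (fjIdx X Vo hV)).app M).hom hr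
  rw [map_zero, map_sum] at h0
  rw [← Finset.sum_attach, ← h0]
  refine Finset.sum_congr rfl fun x _ => (PreTheory.PushData.tot_lof P M i' n' (i + 1) n hi2 hn2 x.1 _).trans ?_
  rw [← ha, resCpt_union Q hD x.2 hU hUV hd M i n i' n' hi hn hi' hn' a]
  exact pushData_eval P x.1 hV _ M i' n' (i + 1) n hi2 hn2 _ _ _

theorem exists_resTot {X : Obj V} {j : ℕ} (Q : T.ResData X j) (P : T.PushData X (j + 1))
    (M : A.Cat) (i n i' n' : ℤ) (hi : i' = i + 1 - 2 * ((j : ℤ) + 1)) (hn : n' = n - ((j : ℤ) + 1))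
    (hi2 : i + 1 = i' + 2 * ((j + 1 : ℕ) : ℤ)) (hn2 : n = n' + ((j + 1 : ℕ) : ℤ))
    (ξ : T.ptSum X (j + 1) M i' n') (h : (P.tot M i' n' (i + 1) n hi2 hn2).hom ξ = 0) :
    ∃ α, (Q.tot M i n i' n' hi hn).hom α = ξ := by
  classical
  let S : Finset (X.cdPt (j + 1)) := DFinsupp.support ξ
  rcases S.eq_empty_or_nonempty with hSe | ⟨x₀, hx₀⟩
  · exact ⟨0, by rw [map_zero]; exact (DFinsupp.support_eq_empty.1 hSe).symm⟩
  choose W hW c hc using fun x : X.cdPt (j + 1) => exists_rep_pre T x M i' n' (ξ x)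
  let V₁ : X.scheme.Opens := (S.inf W) ⊓ disjOpen S
  have hV₁ : ContainsFj X (j + 1) V₁ := fun z hz => by
    refine ⟨?_, containsFj_disjOpen S z hz⟩
    show z ∈ S.inf W
    rw [← SetLike.mem_coe, Opens.coe_finset_inf]
    simpa using fun x _ => hW x z hz
  have hle : ∀ x ∈ S, V₁ ≤ W x := fun x hx => inf_le_left.trans (Finset.inf_le hx)
  have dV₁ := (Good.fj X (j + 1)).dim V₁ hV₁
  have hdW : ∀ (x : X.cdPt (j + 1)) (U U' : X.scheme.Opens), x.1 ∈ U → x.1 ∈ U' →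
      dim ((X.ptSubι x.1 ⁻¹ᵁ U : _) : Scheme.{u}) = dim ((X.ptSubι x.1 ⁻¹ᵁ U' : _) : Scheme.{u}) :=
    fun x U U' hU hU' => (dim_open_ptSub X x.1 _ (nonempty_preimage_ptSub hU)).trans
      (dim_open_ptSub X x.1 _ (nonempty_preimage_ptSub hU')).symm
  let c₁ : ∀ x ∈ S, T.gp ((X.ptSub x.1).res (X.ptSubι x.1 ⁻¹ᵁ V₁)) M i' n' := fun x hx =>
    (T.pull ((X.ptSub x.1).resLE ((X.ptSubι x.1).preimage_mono (hle x hx))
      (hdW x _ _ (hV₁ _ x.2.le) (hW x _ x.2.le))) M i' n').hom (c x)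
  have hc₁ : ∀ x (hx : x ∈ S),
      ((T.ptι X x.1 i' n' (preIdx X x.1 V₁ (hV₁ _ x.2.le))).app M).hom (c₁ x hx) = ξ x := fun x hx =>
    (ι_res (T := T) (U := preIdx X x.1 V₁ (hV₁ _ x.2.le)) (U' := preIdx X x.1 (W x) (hW x _ x.2.le))
      ((X.ptSubι x.1).preimage_mono (hle x hx)) _ M i' n' (c x)).trans (hc x)
  have hpi : ∀ (x : X.cdPt (j + 1)) (U : X.scheme.Opens), ContainsFj X (j + 1) U →
      i + 1 = i' + 2 * relCodim ((X.ptSub x.1).res (X.ptSubι x.1 ⁻¹ᵁ U)).scheme (X.res U).scheme ∧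
      n = n' + relCodim ((X.ptSub x.1).res (X.ptSubι x.1 ⁻¹ᵁ U)).scheme (X.res U).scheme :=
    fun x U hU => by
      rw [relCodim_preimage X x (hU _ x.2.le) ((Good.fj X (j + 1)).dim U hU)]; exact ⟨hi2, hn2⟩
  let b := ∑ x ∈ S.attach, (T.push (X.ptSubι x.1.1 ∣_ V₁) M i' n' (i + 1) n (hpi x.1 V₁ hV₁).1
    (hpi x.1 V₁ hV₁).2).hom (c₁ x.1 x.2)
  have hb : ((T.fjι X (j + 1) (i + 1) n (fjIdx X V₁ hV₁)).app M).hom b = 0 := by
    rw [← h, map_sum]
    conv_rhs => rw [← DirectSum.sum_support_of ξ, map_sum, ← Finset.sum_attach]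
    refine Finset.sum_congr rfl fun x _ => ?_
    rw [← DirectSum.lof_eq_of R, PreTheory.PushData.tot_lof]
    refine Eq.trans ?_ (congrArg (P.cpt x.1 M i' n' (i + 1) n hi2 hn2).hom (hc₁ x.1 x.2))
    exact (pushData_eval P x.1 hV₁ (hV₁ _ x.1.2.le) M i' n' (i + 1) n hi2 hn2 _ _ _).symm
  obtain ⟨⟨Vo, hV, hVd⟩, hVle, hb0⟩ :=
    (eq_zero_iff (T := T) (U := fjIdx X V₁ hV₁) (Good.fj X (j + 1)) M (i + 1) n b).1 hb
  have hD : Disj S Vo := ⟨fun x _ => hV _ x.2.le,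
    fun x hx y hy z hz => mem_disjOpen.1 (hVle hz).2 x hx y hy⟩
  obtain ⟨r, hr⟩ := exists_union T hD M i' n' fun x hx =>
    (T.pull ((X.ptSub x.1).resLE ((X.ptSubι x.1).preimage_mono hVle)
      (hdW x _ _ (hV _ x.2.le) (hV₁ _ x.2.le))) M i' n').hom (c₁ x hx)
  have hk : i + 1 = i' + 2 * relCodim ((uObj S).res (uι S ⁻¹ᵁ Vo)).scheme (X.res Vo).scheme := by
    rw [relCodim_union hD hVd hx₀]; exact hi2
  have hk' : n = n' + relCodim ((uObj S).res (uι S ⁻¹ᵁ Vo)).scheme (X.res Vo).scheme := by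
    rw [relCodim_union hD hVd hx₀]; exact hn2
  have hr0 : (T.push (uι S ∣_ Vo) M i' n' (i + 1) n hk hk').hom r = 0 := by
    rw [push_union T hD M i' n' (i + 1) n hk hk' (fun x _ => hpi x Vo hV) r, ← hb0, map_sum]
    refine Finset.sum_congr rfl fun x _ => ?_
    rw [hr x.1 x.2]
    exact (pull_push_restrict T (X.ptSubι x.1.1) hVle _ _ M i' n' (i + 1) n _ _ _ _ (c₁ x.1 x.2)).symm
  let U := removeU Vo S
  have hU : ContainsFj X j U := containsFj_removeU (fun z hz => hV z (hz.trans j.le_succ)) S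
  have dU := (Good.fj X j).dim U hU
  have hd := dU.trans hVd.symm
  have hcd : (lDec (uι S) U Vo rfl hd).codim = ((j + 1 : ℕ) : ℤ) := relCodim_union hD hVd hx₀
  obtain ⟨a, ha⟩ := exists_res_of_push_eq_zero T (lDec (uι S) U Vo rfl hd) M i n i' n'
    (by rw [hcd]; push_cast; exact hi) (by rw [hcd]; push_cast; exact hn) (i + 1) rfl hk hk' r hr0
  refine ⟨((T.fjι X j i n (fjIdx X U hU)).app M).hom a, DFinsupp.ext fun y => ?_⟩
  rw [PreTheory.ResData.tot_apply]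
  by_cases hy : y ∈ S
  · rw [resCpt_union Q hD hy hU rfl hd M i n i' n' hi hn (by rw [hcd]; push_cast; exact hi)
      (by rw [hcd]; push_cast; exact hn) a, ha, hr y hy, ← hc₁ y hy]
    exact ι_res (T := T) (U := preIdx X y.1 Vo (hD.mem y hy)) (U' := preIdx X y.1 V₁ (hV₁ _ y.2.le))
      ((X.ptSubι y.1).preimage_mono hVle) _ M i' n' _
  · refine (resCpt_of_mem Q y hU ⟨hV _ y.2.le, fun h => ?_⟩ M i n i' n' hi hn a).trans
      (DFinsupp.notMem_support_iff.1 hy).symm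
    obtain ⟨x, hx, hxy⟩ := mem_range_uι.1 h
    exact hy (eq_of_specializes_cdPt hxy ▸ hx)

theorem exact_resTot_pushTot {X : Obj V} {j : ℕ} (Q : T.ResData X j) (P : T.PushData X (j + 1))
    (M : A.Cat) (i n i' n' : ℤ) (hi : i' = i + 1 - 2 * ((j : ℤ) + 1)) (hn : n' = n - ((j : ℤ) + 1))
    (hi2 : i + 1 = i' + 2 * ((j + 1 : ℕ) : ℤ)) (hn2 : n = n' + ((j + 1 : ℕ) : ℤ)) :
    Function.Exact (Q.tot M i n i' n' hi hn).hom (P.tot M i' n' (i + 1) n hi2 hn2).hom := fun ξ =>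
  ⟨exists_resTot Q P M i n i' n' hi hn hi2 hn2 ξ,
    fun ⟨α, hα⟩ => hα ▸ resTot_pushTot Q P M i n i' n' hi hn hi2 hn2 α⟩

end Groth.Agent.H26BMCoh
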