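import Groth.Agent.H26BMCoh.Point
import Groth.Agent.H17.Reduced
import Groth.Prelude.Def_BMCoh4

/-!
# Push-forward data between groups of points
-/

set_option autoImplicit false
set_option linter.style.haveILetI false

universe u

open AlgebraicGeometry CategoryTheory CategoryTheory.Limits TopologicalSpace Topology Opposite

namespace Groth.Agent.H26BMCoh

open BMCoh WeilCoh

variable {V : ObjectProperty Scheme.{u}} [IsConstructible V] {R : Type u} [CommRing R] {A : Coefs R}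

lemma dim_le_of_surjective (X Y : Obj V) (f : Y.scheme ⟶ X.scheme) [IsProper f] [Surjective f] :
    dim X.scheme ≤ dim Y.scheme := by
  have h := Groth.Agent.H17.topologicalKrullDim_le_of_specializingMap f f.isClosedMap.specializingMap
    f.surjective
  have h2 : topologicalKrullDim Y.scheme ≠ ⊤ := (IsConstructible.finiteDim Y.mem).ne
  show ((topologicalKrullDim X.scheme).unbotD 0).toNat ≤ ((topologicalKrullDim Y.scheme).unbotD 0).toNat
  revert h h2
  cases topologicalKrullDim X.scheme with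
  | bot => simp
  | coe a =>
    cases topologicalKrullDim Y.scheme with
    | bot => intro h _; exact absurd h (by simp)
    | coe b => intro h h2; exact ENat.toNat_le_toNat (WithBot.coe_le_coe.1 h) (fun e => h2 (by rw [show b = ⊤ from e]; rfl))

/-- The map between the closures of a point and of its image. -/
lemma exists_ptMap {X Y : Obj V} (φ : Y.scheme ⟶ X.scheme) [IsProper φ] (y : Y.scheme) :
    ∃ ψ : (Y.ptSub y).scheme ⟶ (X.ptSub (φ y)).scheme, IsProper ψ ∧ Surjective ψ ∧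
      ψ ≫ X.ptSubι (φ y) = Y.ptSubι y ≫ φ := by
  obtain ⟨ψ, hψ⟩ := Groth.Agent.H17.exists_lift_of_range_subset (Y.ptSubι y ≫ φ) (X.ptSubι (φ y)) (by
    rintro _ ⟨z, rfl⟩
    exact mem_range_ptSubι.2 ((specializes_ptSubι Y y z).map φ.continuous))
  haveI : IsProper (ψ ≫ X.ptSubι (φ y)) := hψ ▸ inferInstance
  haveI : IsProper ψ := IsProper.of_comp ψ (X.ptSubι (φ y))
  refine ⟨ψ, inferInstance, ⟨fun w => ?_⟩, hψ⟩
  have h1 : ψ (ptGen Y y) = ptGen X (φ y) := (X.ptSubι (φ y)).isClosedEmbedding.injective (by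
    rw [ptSubι_ptGen, ← Scheme.Hom.comp_apply, hψ, Scheme.Hom.comp_apply, ptSubι_ptGen])
  have h2 : ptGen X (φ y) ⤳ w :=
    (X.ptSubι (φ y)).isClosedEmbedding.isEmbedding.isInducing.specializes_iff.1
      (by rw [ptSubι_ptGen]; exact specializes_ptSubι X _ w)
  exact h2.mem_closed ψ.isClosedMap.isClosed_range ⟨ptGen Y y, h1⟩

lemma pdim_map_le {X Y : Obj V} (φ : Y.scheme ⟶ X.scheme) [IsProper φ] (y : Y.scheme) :
    pdim X.scheme (φ y) ≤ pdim Y.scheme y := by
  obtain ⟨ψ, hp, hs, -⟩ := exists_ptMap φ y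
  have := dim_le_of_surjective (X.ptSub (φ y)) (Y.ptSub y) ψ
  rwa [dim_ptSub, dim_ptSub] at this

/-- Inside the closure of `y`, only `y` has the image `φ y` when the dimensions agree. -/
lemma eq_of_map_eq {X Y : Obj V} (φ : Y.scheme ⟶ X.scheme) [IsProper φ] (y : Y.scheme)
    (hd : pdim Y.scheme y = pdim X.scheme (φ y)) {z : Y.scheme} (hz : y ⤳ z) (he : φ z = φ y) : y = z :=
  eq_of_specializes_of_pdim_le Y hz (hd.trans_le (he ▸ pdim_map_le φ z))

variable {T : PreTheory V R A}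

/-- Below every nonempty open of the closure of `y` lies the full preimage of one of the closure of
its image. -/
lemma exists_preimage_le {X Y : Obj V} (φ : Y.scheme ⟶ X.scheme) [IsProper φ] (y : Y.scheme)
    (hd : pdim Y.scheme y = pdim X.scheme (φ y)) (ψ : (Y.ptSub y).scheme ⟶ (X.ptSub (φ y)).scheme)
    [IsProper ψ] (hψ : ψ ≫ X.ptSubι (φ y) = Y.ptSubι y ≫ φ) {W : (Y.ptSub y).scheme.Opens}
    (hW : (W : Set (Y.ptSub y).scheme).Nonempty) :
    ∃ W' : (X.ptSub (φ y)).scheme.Opens, (W' : Set (X.ptSub (φ y)).scheme).Nonempty ∧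
      (ψ ⁻¹ᵁ W' : Set (Y.ptSub y).scheme).Nonempty ∧ ψ ⁻¹ᵁ W' ≤ W := by
  have hval : ∀ z, X.ptSubι (φ y) (ψ z) = φ (Y.ptSubι y z) := fun z => by
    rw [← Scheme.Hom.comp_apply, hψ, Scheme.Hom.comp_apply]
  let W' : (X.ptSub (φ y)).scheme.Opens :=
    ⟨(ψ '' (W : Set (Y.ptSub y).scheme)ᶜ)ᶜ, (ψ.isClosedMap _ W.2.isClosed_compl).isOpen_compl⟩
  have hg : ptGen Y y ∈ ψ ⁻¹ᵁ W' := by
    rintro ⟨z, hzW, hz⟩
    have he := congrArg (X.ptSubι (φ y)) hz
    rw [hval, hval, ptSubι_ptGen] at he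
    have := eq_of_map_eq φ y hd (specializes_ptSubι Y y z) he
    refine hzW ?_
    rw [show z = ptGen Y y from
      (Y.ptSubι y).isClosedEmbedding.injective (this.symm.trans (ptSubι_ptGen Y y).symm)]
    exact ptGen_mem Y y hW
  refine ⟨W', ⟨_, hg⟩, ⟨_, hg⟩, fun z hz => ?_⟩
  by_contra h
  exact hz ⟨z, h, rfl⟩

theorem subsingleton_ptPush {X Y : Obj V} (φ : Y.scheme ⟶ X.scheme) [IsProper φ] (y : Y.scheme)
    (x : X.scheme) : Subsingleton (T.PtPush φ y x) := by
  refine ⟨fun L L' => ?_⟩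
  suffices h : L.cpt = L'.cpt by
    cases L; cases L'; subst h; rfl
  obtain rfl : φ y = x := L.maps_pt
  have hd : pdim Y.scheme y = pdim X.scheme (φ y) := by
    have h := L.codim_eq
    unfold relCodim at h
    rw [dim_ptSub, dim_ptSub] at h
    omega
  obtain ⟨ψ, hp, -, hψ⟩ := exists_ptMap φ y
  funext M i n
  refine ModuleCat.hom_ext (LinearMap.ext fun a => ?_)
  obtain ⟨⟨W, hW, hWd⟩, b, rfl⟩ := exists_rep (T := T) (Good.pt Y y) M i n a
  obtain ⟨W', hW', hne, hle⟩ := exists_preimage_le φ y hd ψ hψ hW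
  have hd1 : dim ((ψ ⁻¹ᵁ W' : _) : Scheme.{u}) = pdim Y.scheme y := dim_open_ptSub Y y _ hne
  have hd2 : dim (W' : Scheme.{u}) = pdim X.scheme (φ y) := dim_open_ptSub X _ W' hW'
  have hc : relCodim ((Y.ptSub y).res (ψ ⁻¹ᵁ W')).scheme ((X.ptSub (φ y)).res W').scheme = 0 := by
    show (dim (W' : Scheme.{u}) : ℤ) - (dim ((ψ ⁻¹ᵁ W' : _) : Scheme.{u}) : ℤ) = 0
    omega
  have heq : (ψ ∣_ W') ≫ W'.ι ≫ X.ptSubι (φ y) = (ψ ⁻¹ᵁ W').ι ≫ Y.ptSubι y ≫ φ := by
    rw [morphismRestrict_ι_assoc, hψ]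
  have he := ι_res (T := T) (U := ptIdxMk Y y _ hne) (U' := ⟨W, hW, hWd⟩) hle
    (((Good.pt Y y).dim _ hne).trans hWd.symm) M i n b
  rw [← he]
  exact (ConcreteCategory.congr_hom (L.cpt_spec M i n (ptIdxMk Y y _ hne) (ptIdxMk X (φ y) W' hW')
    (ψ ∣_ W') heq (by rw [hc]; simp) (by rw [hc]; simp)) _).trans
    (ConcreteCategory.congr_hom (L'.cpt_spec M i n (ptIdxMk Y y _ hne) (ptIdxMk X (φ y) W' hW')
    (ψ ∣_ W') heq (by rw [hc]; simp) (by rw [hc]; simp)) _).symm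

end Groth.Agent.H26BMCoh
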