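import Groth.Agent.H26BMCoh.Exact
import Groth.Agent.H26BMCoh.PtPush
import Groth.Prelude.Def_BMCoh4

/-!
# The residue of a class pushed from a point, computed on a modification of its closure
-/

set_option autoImplicit false
set_option linter.style.haveILetI false

universe u

open AlgebraicGeometry CategoryTheory CategoryTheory.Limits TopologicalSpace Topology Opposite

namespace Groth.Agent.H26BMCoh

open BMCoh WeilCoh

variable {V : ObjectProperty Scheme.{u}} [IsConstructible V] {R : Type u} [CommRing R] {A : Coefs R}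
  {T : PreTheory V R A}

variable {X Y : Obj V}

/-- One summand of the total of a family of push-forward data. -/
lemma famTot_term {φ : Y.scheme ⟶ X.scheme} {j k : ℕ} (t : Y.cdPt j → X.cdPt k)
    (F : ∀ y : Y.cdPt j, T.PtPush φ y.1 (t y).1) (y : Y.cdPt j) (x : X.cdPt k) (htx : t y = x) [DecidableEq (Y.cdPt j)]
    (M : A.Cat) (i n : ℤ) {W : (Y.ptSub y.1).scheme.Opens} {W' : (X.ptSub x.1).scheme.Opens}
    (hW : (W : Set (Y.ptSub y.1).scheme).Nonempty) (hW' : (W' : Set (X.ptSub x.1).scheme).Nonempty)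
    (f : ((Y.ptSub y.1).res W).scheme ⟶ ((X.ptSub x.1).res W').scheme) [IsProper f]
    (hf : f ≫ W'.ι ≫ X.ptSubι x.1 = W.ι ≫ Y.ptSubι y.1 ≫ φ) (hi hn)
    (c : T.gp ((Y.ptSub y.1).res W) M i n) :
    ((PreTheory.PtPush.famTot t F M i n).hom
        (DirectSum.lof R (Y.cdPt j) (fun z : Y.cdPt j => T.ptGp Y z.1 M i n) y
          (((T.ptι Y y.1 i n (ptIdxMk Y y.1 W hW)).app M).hom c))) x =
      ((T.ptι X x.1 i n (ptIdxMk X x.1 W' hW')).app M).hom ((T.push f M i n i n hi hn).hom c) := by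
  classical
  subst htx
  rw [PreTheory.PtPush.famTot_lof]
  refine (DirectSum.lof_apply R (t y) _).trans ?_
  exact ConcreteCategory.congr_hom ((F y).cpt_spec M i n (ptIdxMk Y y.1 W hW)
    (ptIdxMk X (t y).1 W' hW') f hf hi hn) c

/-- The component of the total of a family is a sum over the points above. -/
lemma famTot_apply {φ : Y.scheme ⟶ X.scheme} {j k : ℕ} (t : Y.cdPt j → X.cdPt k)
    (F : ∀ y : Y.cdPt j, T.PtPush φ y.1 (t y).1) (M : A.Cat) (i n : ℤ) (ξ : T.ptSum Y j M i n)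
    [DecidableEq (Y.cdPt j)] (x : X.cdPt k) (S : Finset (Y.cdPt j)) (hS : ∀ y, t y = x ↔ y ∈ S) :
    ((PreTheory.PtPush.famTot t F M i n).hom ξ) x = ∑ y ∈ S,
      ((PreTheory.PtPush.famTot t F M i n).hom
        (DirectSum.lof R (Y.cdPt j) (fun z : Y.cdPt j => T.ptGp Y z.1 M i n) y (ξ y))) x := by
  classical
  induction ξ using DirectSum.induction_on with
  | zero =>
    rw [map_zero]
    refine (Finset.sum_eq_zero fun y _ => ?_).symm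
    rw [DirectSum.zero_apply, map_zero, map_zero]
    rfl
  | add a b ha hb =>
    rw [map_add, DirectSum.add_apply, ha, hb, ← Finset.sum_add_distrib]
    refine Finset.sum_congr rfl fun y _ => ?_
    rw [DirectSum.add_apply, map_add, map_add, DirectSum.add_apply]
  | of z c =>
    rw [← DirectSum.lof_eq_of R]
    by_cases hz : z ∈ S
    · rw [Finset.sum_eq_single z]
      · rw [DirectSum.lof_apply]
      · intro y _ hyz
        have h0 : (DirectSum.lof R (Y.cdPt j) (fun z : Y.cdPt j => T.ptGp Y z.1 M i n) z c) y = 0 :=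
          DirectSum.of_eq_of_ne (β := fun z : Y.cdPt j => T.ptGp Y z.1 M i n) z y c hyz
        rw [h0, map_zero, map_zero]
        rfl
      · exact fun h => absurd hz h
    · rw [Finset.sum_eq_zero, PreTheory.PtPush.famTot_lof, DirectSum.lof_eq_of,
        DirectSum.of_eq_of_ne _ _ _ fun e => hz ((hS z).1 e.symm)]
      intro y hy
      have h0 : (DirectSum.lof R (Y.cdPt j) (fun z : Y.cdPt j => T.ptGp Y z.1 M i n) z c) y = 0 :=
        DirectSum.of_eq_of_ne (β := fun z : Y.cdPt j => T.ptGp Y z.1 M i n) z y c (fun e => hz (e ▸ hy))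
      rw [h0, map_zero, map_zero]
      rfl

/-- The points over a point `x`. -/
lemma fibre_eq (φ : Y.scheme ⟶ X.scheme) [IsProper φ] {q : ℕ} (hdim : dim Y.scheme + q = dim X.scheme)
    {η : Y.scheme} (hη : ∀ z, η ⤳ z) (hηd : pdim Y.scheme η = dim Y.scheme)
    (hqη : codim X.scheme (φ η) = q) (x : X.cdPt (q + 1)) {z : Y.scheme} (hz : φ z = x.1) :
    codim Y.scheme z = 1 := by
  have hne : η ≠ z := fun e => by
    subst e
    have := x.2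
    rw [← hz] at this
    omega
  have h1 := pdim_map_le φ z
  rw [hz] at h1
  have h2 := codim_add_pdim X x.1
  have h3 := codim_add_pdim Y z
  have h4 := pdim_lt Y (hη z) hne
  have := x.2
  omega

set_option maxHeartbeats 4000000 in
theorem resTot_pushCpt_eq_famTot
    (hred : ∀ (S : Obj V) (D D'' : Decomp S) (gU : D''.U ⟶ D.U)
      (k : D''.Z.scheme ⟶ D.Z.scheme) [IsClosedImmersion k] [AlgebraicGeometry.Surjective k],
      gU ≫ D.j = D''.j → k ≫ D.i = D''.i →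
      ∀ (M : A.Cat) (i n i' n' : ℤ) (hi : i' = i + 1 - 2 * D.codim) (hn : n' = n - D.codim)
        (hi'' : i' = i + 1 - 2 * D''.codim) (hn'' : n' = n - D''.codim)
        (hk : i' = i' + 2 * relCodim D''.Z.scheme D.Z.scheme)
        (hk' : n' = n' + relCodim D''.Z.scheme D.Z.scheme),
      T.pull gU M i n ≫ T.res D'' M i n i' n' hi'' hn'' ≫ T.push k M i' n' i' n' hk hk' =
        T.res D M i n i' n' hi hn)
    (q : ℕ) (w : X.cdPt q)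
    (φ : Y.scheme ⟶ X.scheme) [IsProper φ] (η : Y.scheme) (hηsp : ∀ z, η ⤳ z)
    (hη : codim Y.scheme η = 0)
    (P : T.PushData X q) (Q : T.ResData X q) (L : T.PtPush φ η w.1)
    (P' : T.PushData Y 0) (Q' : T.ResData Y 0) (t : Y.cdPt 1 → X.cdPt (q + 1))
    (F : ∀ y : Y.cdPt 1, T.PtPush φ y.1 (t y).1)
    (M : A.Cat) (i n i₁ n₁ i₂ n₂ i₃ n₃ : ℤ)
    (h1 : i₁ = i + 2 * (q : ℤ)) (h1' : n₁ = n + (q : ℤ))
    (h2 : i₂ = i₁ + 1 - 2 * ((q : ℤ) + 1)) (h2' : n₂ = n₁ - ((q : ℤ) + 1))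
    (h3 : i₃ = i + 2 * ((0 : ℕ) : ℤ)) (h3' : n₃ = n + ((0 : ℕ) : ℤ))
    (h4 : i₂ = i₃ + 1 - 2 * (((0 : ℕ) : ℤ) + 1)) (h4' : n₂ = n₃ - (((0 : ℕ) : ℤ) + 1))
    (a : T.ptGp Y η M i n) :
    (Q.tot M i₁ n₁ i₂ n₂ h2 h2').hom ((P.cpt w M i n i₁ n₁ h1 h1').hom ((L.cpt M i n).hom a)) =
      (PreTheory.PtPush.famTot t F M i₂ n₂).hom
        ((Q'.tot M i₃ n₃ i₂ n₂ h4 h4').hom
          ((P'.cpt ⟨η, hη⟩ M i n i₃ n₃ h3 h3').hom a)) := by
  classical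
  obtain ⟨w, hw⟩ := w
  obtain rfl : φ η = w := L.maps_pt
  have hηd : pdim Y.scheme η = dim Y.scheme := by have := codim_add_pdim Y η; omega
  have hd0 : pdim Y.scheme η = pdim X.scheme (φ η) := by
    have h := L.codim_eq
    unfold relCodim at h
    rw [dim_ptSub, dim_ptSub] at h
    dsimp only at h
    omega
  have hdim : dim Y.scheme + q = dim X.scheme := by have := codim_add_pdim X (φ η); omega
  obtain ⟨ψ, hψp, -, hψ⟩ := exists_ptMap φ η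
  obtain ⟨⟨W, hW, hWd⟩, c₀, rfl⟩ := exists_rep (T := T) (Good.pt Y η) M i n a
  obtain ⟨W', hW', hne, hle⟩ := exists_preimage_le φ η hd0 ψ hψ hW
  let U₀ : X.scheme.Opens := cut (X.ptSubι (φ η)) ⊤ W'
  have hU₀ : ContainsFj X q U₀ :=
    containsFj_cut (⟨φ η, hw⟩ : X.cdPt q) le_rfl (Vo := ⊤) (fun _ _ => trivial) hW'
  have hηU : η ∈ φ ⁻¹ᵁ U₀ := hU₀ _ hw.le
  have hU' : ContainsFj Y 0 (φ ⁻¹ᵁ U₀) := fun z hz => by
    obtain rfl : η = z := by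
      by_contra hne
      have := codim_lt Y (hηsp z) hne
      omega
    exact hηU
  have dU := (Good.fj X q).dim U₀ hU₀
  have dU' := (Good.fj Y 0).dim _ hU'
  have hleY : Y.ptSubι η ⁻¹ᵁ (φ ⁻¹ᵁ U₀) ≤ W := by
    intro z hz
    refine hle (show ψ z ∈ W' from (mem_cut _).1 hz |>.2 _ ?_)
    rw [← Scheme.Hom.comp_apply, hψ]
    rfl
  have hneY := nonempty_preimage_ptSub (Vo := φ ⁻¹ᵁ U₀) hηU
  obtain ⟨c, hc⟩ : ∃ c : T.gp ((Y.ptSub η).res (Y.ptSubι η ⁻¹ᵁ (φ ⁻¹ᵁ U₀))) M i n,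
      ((T.ptι Y η i n (preIdx Y η (φ ⁻¹ᵁ U₀) hηU)).app M).hom c =
        ((T.ptι Y η i n ⟨W, hW, hWd⟩).app M).hom c₀ :=
    ⟨_, ι_res (T := T) (U := preIdx Y η (φ ⁻¹ᵁ U₀) hηU) (U' := ⟨W, hW, hWd⟩) hleY
      (((Good.pt Y η).dim _ hneY).trans hWd.symm) M i n c₀⟩
  rw [← hc]
  obtain rfl : i₃ = i := by simpa using h3
  obtain rfl : n₃ = n := by simpa using h3'
  have r0 := relCodim_preimage Y (⟨η, hη⟩ : Y.cdPt 0) (Vo := φ ⁻¹ᵁ U₀) hηU dU'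
  let b := (T.push (Y.ptSubι η ∣_ (φ ⁻¹ᵁ U₀)) M i₃ n₃ i₃ n₃ (by rw [r0]; simp) (by rw [r0]; simp)).hom c
  have hP' : (P'.cpt ⟨η, hη⟩ M i₃ n₃ i₃ n₃ h3 h3').hom
      (((T.ptι Y η i₃ n₃ (preIdx Y η (φ ⁻¹ᵁ U₀) hηU)).app M).hom c) =
      ((T.fjι Y 0 i₃ n₃ (fjIdx Y _ hU')).app M).hom b :=
    pushData_eval P' (⟨η, hη⟩ : Y.cdPt 0) hU' hηU M i₃ n₃ i₃ n₃ h3 h3' _ _ c
  have rq : relCodim (Y.res (φ ⁻¹ᵁ U₀)).scheme (X.res U₀).scheme = (q : ℤ) := by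
    show (dim (U₀ : Scheme.{u}) : ℤ) - (dim ((φ ⁻¹ᵁ U₀ : _) : Scheme.{u}) : ℤ) = q
    omega
  let b' := (T.push (φ ∣_ U₀) M i₃ n₃ i₁ n₁ (by rw [rq]; exact h1) (by rw [rq]; exact h1')).hom b
  have rw' := relCodim_preimage X (⟨φ η, hw⟩ : X.cdPt q) (Vo := U₀) (hU₀ _ hw.le) dU
  have hP : (P.cpt ⟨φ η, hw⟩ M i₃ n₃ i₁ n₁ h1 h1').hom ((L.cpt M i₃ n₃).hom
      (((T.ptι Y η i₃ n₃ (preIdx Y η (φ ⁻¹ᵁ U₀) hηU)).app M).hom c)) =
      ((T.fjι X q i₁ n₁ (fjIdx X U₀ hU₀)).app M).hom b' := by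
    let Wx := X.ptSubι (φ η) ⁻¹ᵁ U₀
    have he : Y.ptSubι η ⁻¹ᵁ (φ ⁻¹ᵁ U₀) = ψ ⁻¹ᵁ Wx := by
      show (Y.ptSubι η ≫ φ) ⁻¹ᵁ U₀ = _
      rw [← hψ]; rfl
    let f : ((Y.ptSubι η ⁻¹ᵁ (φ ⁻¹ᵁ U₀) : _) : Scheme.{u}) ⟶ (Wx : Scheme.{u}) :=
      ((Y.ptSub η).scheme.isoOfEq he).hom ≫ (ψ ∣_ Wx)
    haveI : IsProper (ψ ∣_ Wx) := IsZariskiLocalAtTarget.restrict hψp _
    haveI : IsProper f := inferInstanceAs (IsProper (_ ≫ _))
    have hne' := nonempty_preimage_ptSub (Vo := U₀) (hU₀ (φ η) hw.le)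
    have rf : relCodim ((Y.ptSub η).res (Y.ptSubι η ⁻¹ᵁ (φ ⁻¹ᵁ U₀))).scheme ((X.ptSub (φ η)).res Wx).scheme = 0 := by
      show (dim (Wx : Scheme.{u}) : ℤ) - (dim ((Y.ptSubι η ⁻¹ᵁ (φ ⁻¹ᵁ U₀) : _) : Scheme.{u}) : ℤ) = 0
      rw [dim_open_ptSub Y η _ hneY, dim_open_ptSub X (φ η) Wx hne', hd0, sub_self]
    have hf : f ≫ Wx.ι ≫ X.ptSubι (φ η) = (Y.ptSubι η ⁻¹ᵁ (φ ⁻¹ᵁ U₀)).ι ≫ Y.ptSubι η ≫ φ := by
      simp only [f, Category.assoc]
      rw [morphismRestrict_ι_assoc, hψ, Scheme.isoOfEq_hom_ι_assoc]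
    have hL : (L.cpt M i₃ n₃).hom (((T.ptι Y η i₃ n₃ (preIdx Y η (φ ⁻¹ᵁ U₀) hηU)).app M).hom c) =
        ((T.ptι X (φ η) i₃ n₃ (preIdx X (φ η) U₀ (hU₀ _ hw.le))).app M).hom
          ((T.push f M i₃ n₃ i₃ n₃ (by rw [rf]; simp) (by rw [rf]; simp)).hom c) :=
      ConcreteCategory.congr_hom (L.cpt_spec M i₃ n₃ (preIdx Y η (φ ⁻¹ᵁ U₀) hηU)
        (preIdx X (φ η) U₀ (hU₀ _ hw.le)) f hf (by rw [rf]; simp) (by rw [rf]; simp)) c
    rw [hL, pushData_eval P (⟨φ η, hw⟩ : X.cdPt q) hU₀ (hU₀ _ hw.le) M i₃ n₃ i₁ n₁ h1 h1'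
      (by rw [rw']; exact h1) (by rw [rw']; exact h1')]
    refine congrArg _ ?_
    simp only [b', b]
    have hsum : relCodim ((Y.ptSub η).res (Y.ptSubι η ⁻¹ᵁ (φ ⁻¹ᵁ U₀))).scheme (X.res U₀).scheme = (q : ℤ) := by
      show (dim (U₀ : Scheme.{u}) : ℤ) - (dim ((Y.ptSubι η ⁻¹ᵁ (φ ⁻¹ᵁ U₀) : _) : Scheme.{u}) : ℤ) = q
      rw [dim_open_ptSub Y η _ hneY]; omega
    rw [← LinearMap.comp_apply, ← ModuleCat.hom_comp, ← LinearMap.comp_apply, ← ModuleCat.hom_comp,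
      T.push_comp (X := (Y.ptSub η).res (Y.ptSubι η ⁻¹ᵁ (φ ⁻¹ᵁ U₀))) (Y := (X.ptSub (φ η)).res Wx) (Z := X.res U₀) f (X.ptSubι (φ η) ∣_ U₀) M i₃ n₃ i₃ n₃ i₁ n₁ _ _ _ _
        (by rw [hsum]; exact h1) (by rw [hsum]; exact h1'),
      T.push_comp (X := (Y.ptSub η).res (Y.ptSubι η ⁻¹ᵁ (φ ⁻¹ᵁ U₀))) (Y := Y.res (φ ⁻¹ᵁ U₀)) (Z := X.res U₀) (Y.ptSubι η ∣_ (φ ⁻¹ᵁ U₀)) (φ ∣_ U₀) M i₃ n₃ i₃ n₃ i₁ n₁ _ _ _ _
        (by rw [hsum]; exact h1) (by rw [hsum]; exact h1')]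
    refine congrArg (fun g => (ModuleCat.Hom.hom g) c) (push_congr T ?_ M i₃ n₃ i₁ n₁ _ _)
    rw [← cancel_mono U₀.ι]
    refine Eq.trans ?_ (Eq.trans hf ?_)
    · exact (Category.assoc _ _ _).trans (congrArg (f ≫ ·) (morphismRestrict_ι _ _))
    · rw [Category.assoc, morphismRestrict_ι, morphismRestrict_ι_assoc]
  rw [hP, hP']
  refine DFinsupp.ext fun x => ?_
  rw [PreTheory.ResData.tot_apply]
  have hS : {y : Y.cdPt 1 | φ y.1 = x.1}.Finite := by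
    let Zx : Set Y.scheme := φ ⁻¹' Set.range (X.ptSubι x.1)
    have hZ : IsClosed Zx := (X.ptSubι x.1).isClosedEmbedding.isClosed_range.preimage φ.continuous
    refine ((finite_maximal Y hZ).preimage Subtype.val_injective.injOn).subset fun y hy => ?_
    refine ⟨mem_range_ptSubι.2 (specializes_of_eq hy.symm), fun g hg hgy => ?_⟩
    have hgx : x.1 = φ g := eq_of_specializes_of_codim x (mem_range_ptSubι.1 hg) (by
      by_contra hlt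
      push Not at hlt
      have h := (hgy.map φ.continuous)
      rw [show φ y.1 = x.1 from hy] at h
      by_cases he : φ g = x.1
      · rw [he, x.2] at hlt; omega
      · have := codim_lt X h he
        have := x.2
        omega)
    have := fibre_eq φ hdim hηsp hηd hw x hgx.symm
    exact congrArg Subtype.val (eq_of_specializes_cdPt (x := (⟨g, this⟩ : Y.cdPt 1)) (y := y) hgy)
  let S := hS.toFinset
  have hmem : ∀ y, y ∈ S ↔ φ y.1 = x.1 := fun y => by simp [S]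
  have ht : ∀ y, t y = x ↔ y ∈ S := fun y => by
    rw [hmem, (F y).maps_pt]
    exact Subtype.ext_iff
  rw [famTot_apply t F M i₂ n₂ _ x S ht]
  by_cases hxU : x.1 ∈ U₀
  · rw [resCpt_of_mem Q x hU₀ hxU M i₁ n₁ i₂ n₂ h2 h2' b', Finset.sum_eq_zero]
    intro y hy
    rw [PreTheory.ResData.tot_apply, resCpt_of_mem Q' y hU'
      (show φ y.1 ∈ U₀ from ((hmem y).1 hy).symm ▸ hxU) M i₃ n₃ i₂ n₂ h4 h4' b, map_zero, map_zero]
    rfl
  obtain ⟨V₁, hxV₁, -, hUV₁, hV₁⟩ := exists_add x hU₀ (le_top : U₀ ≤ ⊤) trivial hxU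
  let Zx : Set Y.scheme := φ ⁻¹' Set.range (X.ptSubι x.1)
  have hZ : IsClosed Zx := (X.ptSubι x.1).isClosedEmbedding.isClosed_range.preimage φ.continuous
  have hfib : ∀ z, φ z = x.1 → ∃ y ∈ S, y.1 = z := fun z hz =>
    ⟨⟨z, fibre_eq φ hdim hηsp hηd hw x hz⟩, (hmem _).2 hz, rfl⟩
  have hmax : ∀ y : S, ∀ g ∈ Zx, g ⤳ y.1.1 → g = y.1.1 := fun y g hg hgy => by
    have h := hgy.map φ.continuous
    rw [(hmem y.1).1 y.2] at h
    obtain ⟨y', -, rfl⟩ := hfib g (h.antisymm (mem_range_ptSubι.1 hg)).eq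
    exact congrArg Subtype.val (eq_of_specializes_cdPt hgy)
  choose C hC hCZ hZC hyC using fun y : S => exists_rest Y hZ (hmax y)
  let B : Set Y.scheme := Zx ∩ ((⋂ y : S, C y) ∪ (disjOpen S : Set Y.scheme)ᶜ)
  have hB : IsClosed B := hZ.inter ((isClosed_iInter hC).union (disjOpen S).2.isClosed_compl)
  let V₂ : X.scheme.Opens := V₁ ⊓ ⟨(φ '' B)ᶜ, (φ.isClosedMap _ hB).isOpen_compl⟩
  have hxV : x.1 ∈ V₂ := by
    refine ⟨hxV₁, ?_⟩
    rintro ⟨z, ⟨-, hzB⟩, hzx⟩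
    obtain ⟨y, hy, rfl⟩ := hfib z hzx
    rcases hzB with h | h
    · exact hyC ⟨y, hy⟩ (Set.mem_iInter.1 h _)
    · exact h (mem_disjOpen.2 fun y1 _ y2 _ g1 g2 =>
        (eq_of_specializes_cdPt g1).trans (eq_of_specializes_cdPt g2).symm)
  have hV2 : (U₀ : Set X.scheme) = (V₂ : Set X.scheme) \ Set.range (X.ptSubι x.1) := by
    ext z
    have h := Set.ext_iff.1 hV₁ z
    refine ⟨fun hz => ⟨⟨(h.1 hz).1, ?_⟩, (h.1 hz).2⟩, fun hz => h.2 ⟨hz.1.1, hz.2⟩⟩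
    rintro ⟨p, ⟨hp, -⟩, rfl⟩
    exact (h.1 hz).2 hp
  have hUle : U₀ ≤ V₂ := fun z hz => ((Set.ext_iff.1 hV2 z).1 hz).1
  have hV2F : ContainsFj X q V₂ := fun z hz => hUle (hU₀ z hz)
  have dV := (Good.fj X q).dim V₂ hV2F
  have hVy : ContainsFj Y 0 (φ ⁻¹ᵁ V₂) := fun z hz => hUle (hU' z hz)
  have dVy := (Good.fj Y 0).dim _ hVy
  have hcx := codim_lDec X x hV2 (dU.trans dV.symm) hxV dV
  have e2 : i₂ = i₁ + 1 - 2 * (lDec (X.ptSubι x.1) U₀ V₂ hV2 (dU.trans dV.symm)).codim := by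
    rw [hcx]; push_cast; exact h2
  have e2' : n₂ = n₁ - (lDec (X.ptSubι x.1) U₀ V₂ hV2 (dU.trans dV.symm)).codim := by
    rw [hcx]; push_cast; exact h2'
  rw [resData_eval Q x hU₀ hxV hV2 (dU.trans dV.symm) M i₁ n₁ i₂ n₂ h2 h2' e2 e2' b']
  let D := lDec (X.ptSubι x.1) U₀ V₂ hV2 (dU.trans dV.symm)
  have hcov : ∀ z, φ z ∈ V₂ → z ∈ Zx → ∃ y ∈ S, y.1 ⤳ z := fun z hzV hzZ => by
    obtain ⟨y, hy⟩ : ∃ y : S, z ∉ C y := by
      by_contra hall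
      push Not at hall
      exact hzV.2 ⟨z, ⟨hzZ, Or.inl (Set.mem_iInter.2 hall)⟩, rfl⟩
    exact ⟨y.1, y.2, specializes_iff_mem_closure.2 ((hZC y hzZ).resolve_left hy)⟩
  rcases S.eq_empty_or_nonempty with hSe | ⟨y₀, hy₀⟩
  · rw [hSe, Finset.sum_empty]
    have hpre : φ ⁻¹ᵁ V₂ ≤ φ ⁻¹ᵁ U₀ := fun z hz => by
      refine (Set.ext_iff.1 hV2 (φ z)).2 ⟨hz, fun h => ?_⟩
      obtain ⟨y, hy, -⟩ := hcov z hz h
      rw [hSe] at hy
      exact absurd hy (Finset.notMem_empty y)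
    have hd1 := dVy.trans dU'.symm
    have rV : relCodim (Y.res (φ ⁻¹ᵁ V₂)).scheme (X.res V₂).scheme = (q : ℤ) := by
      show (dim (V₂ : Scheme.{u}) : ℤ) - (dim ((φ ⁻¹ᵁ V₂ : _) : Scheme.{u}) : ℤ) = q
      omega
    have hb' : b' = (T.pull D.j M i₁ n₁).hom ((T.push (φ ∣_ V₂) M i₃ n₃ i₁ n₁ (by rw [rV]; exact h1)
        (by rw [rV]; exact h1')).hom ((T.pull (Y.resLE hpre hd1) M i₃ n₃).hom b)) := by
      refine Eq.trans ?_ (pull_push_restrict T φ hUle (dU.trans dV.symm) (dU'.trans dVy.symm)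
        M i₃ n₃ i₁ n₁ _ _ (by rw [rq]; exact h1) (by rw [rq]; exact h1') _).symm
      refine congrArg _ ?_
      exact ((pull_resLE_resLE T Y _ hpre _ _ rfl M i₃ n₃ b).trans (pull_resLE_self T Y _ _ M i₃ n₃ b)).symm
    rw [hb']
    exact (congrArg _ (res_pull_eq_zero T D M i₁ n₁ i₂ n₂ e2 e2' _)).trans (map_zero _)
  have hD : Disj S (φ ⁻¹ᵁ V₂) := by
    refine ⟨fun y hy => show φ y.1 ∈ V₂ from ((hmem y).1 hy).symm ▸ hxV, fun y hy y' hy' z hz g g' => ?_⟩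
    have hzZ : z ∈ Zx := mem_range_ptSubι.2 (((hmem y).1 hy) ▸ g.map φ.continuous)
    have : z ∈ disjOpen S := by_contra fun h => hz.2 ⟨z, ⟨hzZ, Or.inr h⟩, rfl⟩
    exact mem_disjOpen.1 this y hy y' hy' g g'
  have hUY : ((φ ⁻¹ᵁ U₀ : _) : Set Y.scheme) = ((φ ⁻¹ᵁ V₂ : _) : Set Y.scheme) \ Set.range (uι S) := by
    ext z
    constructor
    · intro hz
      refine ⟨hUle hz, fun h => ?_⟩
      obtain ⟨y, hy, hyz⟩ := mem_range_uι.1 h
      exact ((Set.ext_iff.1 hV2 (φ z)).1 hz).2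
        (mem_range_ptSubι.2 (((hmem y).1 hy) ▸ hyz.map φ.continuous))
    · rintro ⟨hz, hzS⟩
      refine (Set.ext_iff.1 hV2 (φ z)).2 ⟨hz, fun h => hzS ?_⟩
      exact mem_range_uι.2 (hcov z hz h)
  have hdY := dU'.trans dVy.symm
  let D'' := lDec (uι S) (φ ⁻¹ᵁ U₀) (φ ⁻¹ᵁ V₂) hUY hdY
  have hc'' : D''.codim = ((1 : ℕ) : ℤ) := relCodim_union hD dVy hy₀
  have hrange : (φ ∣_ V₂) ⁻¹' Set.range D.i = Set.range D''.i := by
    ext z
    have hz1 : ∀ (Z O : Obj V) (ι : Z.scheme ⟶ O.scheme) (Vo : O.scheme.Opens) (p : (Vo : Scheme.{u})),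
        p ∈ Set.range (ι ∣_ Vo) ↔ Vo.ι p ∈ Set.range ι := fun Z O ι Vo p => by
      constructor
      · rintro ⟨u, rfl⟩
        exact ⟨(ι ⁻¹ᵁ Vo).ι u, by rw [← Scheme.Hom.comp_apply, ← morphismRestrict_ι, Scheme.Hom.comp_apply]⟩
      · rintro ⟨u, hu⟩
        refine ⟨⟨u, show ι u ∈ Vo from hu ▸ p.2⟩, Vo.ι.isOpenEmbedding.injective ?_⟩
        rw [← Scheme.Hom.comp_apply, morphismRestrict_ι]
        exact hu
    refine (hz1 (X.ptSub x.1) X (X.ptSubι x.1) V₂ _).trans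
      (Iff.trans ?_ (hz1 (uObj S) Y (uι S) (φ ⁻¹ᵁ V₂) z).symm)
    rw [← Scheme.Hom.comp_apply, morphismRestrict_ι, Scheme.Hom.comp_apply, mem_range_uι]
    refine ⟨fun h => hcov _ z.2 h, fun ⟨y, hy, hyz⟩ => ?_⟩
    exact mem_range_ptSubι.2 (((hmem y).1 hy) ▸ hyz.map φ.continuous)
  haveI : IsProper (φ ∣_ V₂) := IsZariskiLocalAtTarget.restrict ‹IsProper φ› V₂
  haveI : IsClosedImmersion D.i := D.closedImm
  let p1 := pullback.fst (φ ∣_ V₂) D.i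
  haveI : IsClosedImmersion p1 := MorphismProperty.pullback_fst _ _ inferInstance
  let P₀ : Obj V := ⟨pullback (φ ∣_ V₂) D.i,
    IsConstructible.of_isClosedImmersion p1 (h := (inferInstance : IsClosedImmersion p1)) (Y.res (φ ⁻¹ᵁ V₂)).mem⟩
  have hrp : Set.range p1 = Set.range D''.i := (Scheme.Pullback.range_fst _ _).trans hrange
  let D' : Decomp (Y.res (φ ⁻¹ᵁ V₂)) :=
    ⟨P₀, Y.res (φ ⁻¹ᵁ U₀), p1, inferInstance, D''.j, D''.range_eq.trans (by rw [hrp])⟩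
  haveI : IsReduced D''.Z.scheme :=
    (isReduced_of_isOpenImmersion (uι S ⁻¹ᵁ (φ ⁻¹ᵁ V₂)).ι : IsReduced ((uι S ⁻¹ᵁ (φ ⁻¹ᵁ V₂) : _) : Scheme.{u}))
  haveI : IsClosedImmersion D''.i := D''.closedImm
  obtain ⟨k, hk⟩ := Groth.Agent.H17.exists_lift_of_range_subset (X := D''.Z.scheme) D''.i p1 hrp.symm.subset
  haveI : IsClosedImmersion (k ≫ p1) := hk ▸ inferInstance
  haveI : IsClosedImmersion k := IsClosedImmersion.of_comp k p1
  haveI : Surjective k := ⟨fun z => by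
    obtain ⟨u, hu⟩ := (Set.ext_iff.1 hrp (p1 z)).1 ⟨z, rfl⟩
    exact ⟨u, p1.isClosedEmbedding.injective (by rw [← Scheme.Hom.comp_apply, hk, hu])⟩⟩
  have hdP : dim P₀.scheme = dim D''.Z.scheme :=
    natDim_eq_of_range_eq p1.isClosedEmbedding.isEmbedding D''.i.isClosedEmbedding.isEmbedding hrp
  have hc' : D'.codim = ((1 : ℕ) : ℤ) := by
    rw [← hc'']
    show (dim ((φ ⁻¹ᵁ V₂ : _) : Scheme.{u}) : ℤ) - (dim P₀.scheme : ℤ) =
      (dim ((φ ⁻¹ᵁ V₂ : _) : Scheme.{u}) : ℤ) - (dim D''.Z.scheme : ℤ)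
    rw [hdP]
  have hrk : relCodim D''.Z.scheme D'.Z.scheme = 0 := by
    show (dim P₀.scheme : ℤ) - (dim D''.Z.scheme : ℤ) = 0
    rw [hdP, sub_self]
  have u1 : i₂ = i₃ + 1 - 2 * D''.codim := by rw [hc'']; push_cast; exact h4
  have u1' : n₂ = n₃ - D''.codim := by rw [hc'']; push_cast; exact h4'
  have v1 : i₂ = i₃ + 1 - 2 * D'.codim := by rw [hc']; push_cast; exact h4
  have v1' : n₂ = n₃ - D'.codim := by rw [hc']; push_cast; exact h4'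
  let fZ := pullback.snd (φ ∣_ V₂) D.i
  haveI : IsProper fZ := MorphismProperty.pullback_snd _ _ inferInstance
  haveI : IsProper (φ ∣_ U₀) := IsZariskiLocalAtTarget.restrict ‹IsProper φ› U₀
  have hsq : IsPullback (Y.scheme.homOfLE (φ.preimage_mono hUle)) (φ ∣_ U₀) (φ ∣_ V₂)
      (X.scheme.homOfLE hUle) := isPullback_restrict φ hUle
  have hdz : dim D.Z.scheme = dim D''.Z.scheme := by
    show dim ((X.ptSubι x.1 ⁻¹ᵁ V₂ : _) : Scheme.{u}) = dim ((uι S ⁻¹ᵁ (φ ⁻¹ᵁ V₂) : _) : Scheme.{u})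
    rw [dim_open_ptSub X x.1 _ (nonempty_preimage_ptSub hxV), dim_preimage_uι hD hy₀]
    have := codim_add_pdim X x.1
    have := codim_add_pdim Y y₀.1
    have := x.2
    have := y₀.2
    omega
  have hrfZ : relCodim D'.Z.scheme D.Z.scheme = 0 := by
    show (dim D.Z.scheme : ℤ) - (dim P₀.scheme : ℤ) = 0
    rw [hdP, hdz, sub_self]
  have hrg : relCodim ((uObj S).res (uι S ⁻¹ᵁ (φ ⁻¹ᵁ V₂))).scheme
      ((X.ptSub x.1).res (X.ptSubι x.1 ⁻¹ᵁ V₂)).scheme = 0 := by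
    show (dim D.Z.scheme : ℤ) - (dim D''.Z.scheme : ℤ) = 0
    rw [hdz, sub_self]
  let fU : D'.U.scheme ⟶ D.U.scheme := φ ∣_ U₀
  haveI : IsProper fU := ‹IsProper (φ ∣_ U₀)›
  have k1 := ConcreteCategory.congr_hom (T.res_push D D' (φ ∣_ V₂) fZ fU
    (IsPullback.of_hasPullback (φ ∣_ V₂) D.i) hsq M i₃ n₃ i₂ n₂ i₁ n₁ i₂ n₂ v1 v1'
    (by show i₁ = i₃ + 2 * relCodim (Y.res (φ ⁻¹ᵁ U₀)).scheme (X.res U₀).scheme; rw [rq]; exact h1)
    (by show n₁ = n₃ + relCodim (Y.res (φ ⁻¹ᵁ U₀)).scheme (X.res U₀).scheme; rw [rq]; exact h1')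
    (by rw [hrfZ]; ring) (by rw [hrfZ]; ring) e2 e2') b
  have k2 := ConcreteCategory.congr_hom (hred (Y.res (φ ⁻¹ᵁ V₂)) D' D'' (𝟙 _) k (Category.id_comp _) hk
    M i₃ n₃ i₂ n₂ v1 v1' u1 u1' (by rw [hrk]; ring) (by rw [hrk]; ring)) b
  let g : ((uObj S).res (uι S ⁻¹ᵁ (φ ⁻¹ᵁ V₂))).scheme ⟶ ((X.ptSub x.1).res (X.ptSubι x.1 ⁻¹ᵁ V₂)).scheme :=
    k ≫ fZ
  haveI : IsProper g := inferInstanceAs (IsProper (k ≫ fZ))
  have hres : (T.res D M i₁ n₁ i₂ n₂ e2 e2').hom b' =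
      (T.push g M i₂ n₂ i₂ n₂ (by rw [hrg]; ring) (by rw [hrg]; ring)).hom
        ((T.res D'' M i₃ n₃ i₂ n₂ u1 u1').hom b) := by
    simp only [ModuleCat.hom_comp, LinearMap.comp_apply] at k1 k2
    refine k1.symm.trans ?_
    erw [pull_id] at k2
    rw [← k2, ← LinearMap.comp_apply, ← ModuleCat.hom_comp, T.push_comp]
    rfl
  rw [hres]
  let r := (T.res D'' M i₃ n₃ i₂ n₂ u1 u1').hom b
  have hr : r = ∑ y ∈ S.attach, (T.push (piece hD y.2).hom M i₂ n₂ i₂ n₂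
      (by rw [relCodim_piece hD y.2]; ring) (by rw [relCodim_piece hD y.2]; ring)).hom
      ((T.pull (piece hD y.2) M i₂ n₂).hom r) := by
    refine union_ext T hD M i₂ n₂ _ _ fun y hy => ?_
    rw [map_sum, Finset.sum_eq_single ⟨y, hy⟩]
    · exact (pull_piece_push_self T hD hy M i₂ n₂ _ _ _).symm
    · exact fun y' _ hne => pull_piece_push_of_ne T hD y'.2 hy (fun e => hne (Subtype.ext e)) M i₂ n₂ _ _ _
    · exact fun h => absurd (Finset.mem_attach _ _) h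
  show ((T.ptι X x.1 i₂ n₂ (preIdx X x.1 V₂ hxV)).app M).hom ((T.push g M i₂ n₂ i₂ n₂ _ _).hom r) = _
  conv_lhs => rw [hr]
  refine ((congrArg _ (map_sum _ _ _)).trans (map_sum _ _ _)).trans ?_
  rw [← Finset.sum_attach S]
  refine Finset.sum_congr rfl fun y _ => ?_
  rw [PreTheory.ResData.tot_apply, resCpt_union Q' hD y.2 hU' hUY hdY M i₃ n₃ i₂ n₂ h4 h4' u1 u1' b]
  haveI : IsProper ((piece hD y.2).hom ≫ g) := inferInstance
  have hdp : relCodim ((Y.ptSub y.1.1).res (Y.ptSubι y.1.1 ⁻¹ᵁ (φ ⁻¹ᵁ V₂))).scheme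
      ((X.ptSub x.1).res (X.ptSubι x.1 ⁻¹ᵁ V₂)).scheme = 0 := by
    have h := relCodim_piece hD y.2
    have h' := hrg
    unfold relCodim at h h' ⊢
    change (dim D.Z.scheme : ℤ) - _ = 0
    change (dim D''.Z.scheme : ℤ) - _ = 0 at h
    omega
  refine Eq.trans ?_ (famTot_term t F y.1 x ((ht y.1).2 y.2) M i₂ n₂
    (nonempty_preimage_ptSub (Vo := φ ⁻¹ᵁ V₂) (hD.mem y.1 y.2)) (nonempty_preimage_ptSub hxV)
    ((piece hD y.2).hom ≫ g) ?_ (by rw [hdp]; ring) (by rw [hdp]; ring) _).symm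
  · refine congrArg _ ?_
    rw [← LinearMap.comp_apply, ← ModuleCat.hom_comp, T.push_comp]
  · have hgi : g ≫ D.i = D''.i ≫ (φ ∣_ V₂) := by
      show (k ≫ fZ) ≫ D.i = _
      rw [Category.assoc, ← pullback.condition, ← Category.assoc, hk]
    rw [← morphismRestrict_ι, ← Category.assoc]
    refine (congrArg (fun h => h ≫ V₂.ι) (show ((piece hD y.2).hom ≫ g) ≫ D.i =
      (Y.ptSubι y.1.1 ∣_ (φ ⁻¹ᵁ V₂)) ≫ (φ ∣_ V₂) by
        rw [Category.assoc, hgi, ← piece_uι hD y.2, Category.assoc]; rfl)).trans ?_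
    rw [Category.assoc, morphismRestrict_ι, morphismRestrict_ι_assoc]

end Groth.Agent.H26BMCoh
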