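import Groth.Agent.H26BMCoh.Exact

/-!
# The groups of `F_0` of a reduced object and their consequences
-/

set_option autoImplicit false
set_option linter.style.haveILetI false

universe u

open AlgebraicGeometry CategoryTheory CategoryTheory.Limits TopologicalSpace Topology Opposite

namespace Groth.Agent.H26BMCoh

open BMCoh WeilCoh

variable {V : ObjectProperty Scheme.{u}} [IsConstructible V] {R : Type u} [CommRing R] {A : Coefs R}
  (T : PreTheory V R A)

lemma finite_cdPt_zero (X : Obj V) : (Set.univ : Set (X.cdPt 0)).Finite := by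
  refine ((finite_maximal X isClosed_univ).preimage Subtype.val_injective.injOn).subset fun x _ => ?_
  refine ⟨trivial, fun g _ hg => ?_⟩
  by_contra hne
  have := codim_lt X hg hne
  have := x.2
  omega

/-- An open around the generic points covered by their closures. -/
lemma exists_covered (X : Obj V) (S : Finset (X.cdPt 0)) (hS : ∀ x, x ∈ S) :
    ∃ N : X.scheme.Opens, ContainsFj X 0 N ∧ ∀ z ∈ N, z ∈ Set.range (uι S) := by
  have hmax : ∀ x : X.cdPt 0, ∀ g ∈ (Set.univ : Set X.scheme), g ⤳ x.1 → g = x.1 := fun x g _ hg => by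
    by_contra hne
    have := codim_lt X hg hne
    have := x.2
    omega
  choose C hC _ hZC hxC using fun x : S => exists_rest X isClosed_univ (hmax x.1)
  refine ⟨⟨(⋂ x : S, C x)ᶜ, (isClosed_iInter hC).isOpen_compl⟩, fun z hz h => ?_, fun z hz => ?_⟩
  · exact hxC ⟨⟨z, Nat.le_zero.1 hz⟩, hS _⟩ (Set.mem_iInter.1 h _)
  · obtain ⟨x, hx⟩ : ∃ x : S, z ∉ C x := by
      by_contra hall
      push Not at hall
      exact hz (Set.mem_iInter.2 hall)
    exact mem_range_uι.2 ⟨x.1, x.2,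
      specializes_iff_mem_closure.2 ((hZC x (Set.mem_univ z)).resolve_left hx)⟩

/-- On an open covered by the closures of the generic points, the union is the open itself. -/
lemma push_union_bijective {X : Obj V} [IsReduced X.scheme] {S : Finset (X.cdPt 0)} {Vo : X.scheme.Opens}
    (hD : Disj S Vo) {x : X.cdPt 0} (hx : x ∈ S) (hVd : dim (Vo : Scheme.{u}) = dim X.scheme)
    (hcov : ∀ z ∈ Vo, z ∈ Set.range (uι S)) (M : A.Cat) (i n : ℤ) (hi hn) :
    Function.Bijective (fun r : T.gp ((uObj S).res (uι S ⁻¹ᵁ Vo)) M i n =>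
      ((T.push (uι S ∣_ Vo) M i n i n hi hn).hom r : T.gp (X.res Vo) M i n)) := by
  haveI : IsClosedImmersion (uι S ∣_ Vo) := IsZariskiLocalAtTarget.restrict (inferInstance : IsClosedImmersion (uι S)) Vo
  haveI : Surjective (uι S ∣_ Vo) := ⟨fun z => by
    obtain ⟨g, hg⟩ := hcov z.1 z.2
    refine ⟨⟨g, show uι S g ∈ Vo from hg ▸ z.2⟩, Vo.ι.isOpenEmbedding.injective ?_⟩
    rw [← Scheme.Hom.comp_apply, morphismRestrict_ι]
    exact hg⟩
  haveI : IsIso (uι S ∣_ Vo) := isIso_of_isClosedImmersion_of_surjective _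
  have hc := relCodim_union hD hVd hx
  have hd : dim ((uι S ⁻¹ᵁ Vo : _) : Scheme.{u}) = dim (Vo : Scheme.{u}) := by
    unfold relCodim at hc
    change (dim (Vo : Scheme.{u}) : ℤ) - (dim ((uι S ⁻¹ᵁ Vo : _) : Scheme.{u}) : ℤ) = 0 at hc
    omega
  let g : (uObj S).res (uι S ⁻¹ᵁ Vo) ⟶ X.res Vo := ⟨uι S ∣_ Vo, inferInstance, hd⟩
  have hb : Function.Bijective (T.pull g M i n).hom :=
    pull_bijective_of_iso T g ⟨inv (uι S ∣_ Vo), inferInstance, hd.symm⟩
      (Hom.ext (IsIso.hom_inv_id _)) (Hom.ext (IsIso.inv_hom_id _)) M i n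
  haveI : IsProper g.hom := (inferInstance : IsProper (uι S ∣_ Vo))
  have hl : ∀ c, (T.pull g M i n).hom ((T.push g.hom M i n i n hi hn).hom c) = c :=
    pull_push_self T g M i n hi hn
  exact ⟨Function.LeftInverse.injective hl, fun b => ⟨(T.pull g M i n).hom b, hb.1 (hl _)⟩⟩

/-- A class on `F_0` comes from classes at the generic points. -/
theorem exists_sum_pushes (X : Obj V) [IsReduced X.scheme] (M : A.Cat) (i n i' n' : ℤ)
    (hi : i' = i) (hn : n' = n) (S₀ : Submodule R (T.fjGp X 0 M i' n'))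
    (hS₀ : ∀ (x : X.cdPt 0) (U : X.scheme.Opens) (hU : ContainsFj X 0 U) (hi' hn')
      (c : T.gp ((X.ptSub x.1).res (X.ptSubι x.1 ⁻¹ᵁ U)) M i n),
      ((T.fjι X 0 i' n' (fjIdx X U hU)).app M).hom
        ((T.push (X.ptSubι x.1 ∣_ U) M i n i' n' hi' hn').hom c) ∈ S₀)
    (α : T.fjGp X 0 M i' n') : α ∈ S₀ := by
  subst hi hn
  obtain ⟨⟨U, hU, hUd⟩, b, rfl⟩ := exists_rep (T := T) (Good.fj X 0) M i' n' α
  let S := (finite_cdPt_zero X).toFinset
  have hS : ∀ x, x ∈ S := fun x => by simp [S]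
  obtain ⟨N, hN, hcov⟩ := exists_covered X S hS
  let Vo := U ⊓ N ⊓ disjOpen S
  have hV : ContainsFj X 0 Vo := fun z hz => ⟨⟨hU z hz, hN z hz⟩, containsFj_disjOpen S z hz⟩
  have hVd := (Good.fj X 0).dim Vo hV
  have hle : Vo ≤ U := inf_le_left.trans inf_le_left
  rw [← ι_res (T := T) (U := fjIdx X Vo hV) (U' := ⟨U, hU, hUd⟩) hle (hVd.trans hUd.symm) M i' n' b]
  rcases S.eq_empty_or_nonempty with hSe | ⟨x₀, hx₀⟩
  · haveI : IsEmpty X.scheme := ⟨fun z => by
      haveI : Nonempty X.scheme := ⟨z⟩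
      obtain ⟨y, hy⟩ := exists_pdim_eq_dim X
      have h0 : codim X.scheme y = 0 := by have := codim_add_pdim X y; omega
      exact absurd (hS ⟨y, h0⟩) (by rw [hSe]; simp)⟩
    haveI : IsEmpty (X.res Vo).scheme := ⟨fun z => isEmptyElim (Vo.ι z)⟩
    haveI := subsingleton_gp_of_isEmpty T (X.res Vo) M i' n'
    rw [Subsingleton.elim ((T.pull (X.resLE hle (hVd.trans hUd.symm)) M i' n').hom b) 0]
    convert S₀.zero_mem
    exact map_zero _
  have hD : Disj S Vo := ⟨fun x _ => hV _ x.2.le, fun x hx y hy z hz => mem_disjOpen.1 hz.2 x hx y hy⟩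
  have hk := relCodim_union hD hVd hx₀
  obtain ⟨r, hr⟩ := (push_union_bijective T hD hx₀ hVd (fun z hz => hcov z hz.1.2) M i' n'
    (by rw [hk]; simp) (by rw [hk]; simp)).2
      ((T.pull (X.resLE hle (hVd.trans hUd.symm)) M i' n').hom b)
  simp only at hr
  rw [← hr, push_union T hD M i' n' i' n' _ _ (fun x hx => by
    rw [relCodim_preimage X x (hD.mem x hx) hVd]; simp) r, map_sum]
  exact S₀.sum_mem fun x _ => hS₀ x.1 Vo hV _ _ _

theorem pushTot_zero_surjective (X : Obj V) [IsReduced X.scheme] (P : T.PushData X 0) (M : A.Cat)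
    (i n i' n' : ℤ) (hi : i' = i + 2 * ((0 : ℕ) : ℤ)) (hn : n' = n + ((0 : ℕ) : ℤ)) :
    Function.Surjective (P.tot M i n i' n' hi hn).hom := fun α => by
  classical
  exact exists_sum_pushes T X M i n i' n' (by simpa using hi) (by simpa using hn)
    (LinearMap.range (P.tot M i n i' n' hi hn).hom)
    (fun x U hU hi' hn' c => ⟨DirectSum.lof R (X.cdPt 0) (fun y : X.cdPt 0 => T.ptGp X y.1 M i n) x
      (((T.ptι X x.1 i n (preIdx X x.1 U (hU _ x.2.le))).app M).hom c), by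
      rw [PreTheory.PushData.tot_lof]
      exact pushData_eval P x hU (hU _ x.2.le) M i n i' n' hi hn hi' hn' c⟩) α

/-- Representatives of finitely many classes at points on a common open. -/
lemma exists_common_rep {X : Obj V} {m : ℕ} (S : Finset (X.cdPt m)) (M : A.Cat) (i n : ℤ)
    (ξ : ∀ x : X.cdPt m, T.ptGp X x.1 M i n) (N : X.scheme.Opens) (hN : ContainsFj X m N) :
    ∃ (V₁ : X.scheme.Opens) (hV₁ : ContainsFj X m V₁), V₁ ≤ N ∧
      ∃ c : ∀ x ∈ S, T.gp ((X.ptSub x.1).res (X.ptSubι x.1 ⁻¹ᵁ V₁)) M i n, ∀ x (hx : x ∈ S),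
        ((T.ptι X x.1 i n (preIdx X x.1 V₁ (hV₁ _ x.2.le))).app M).hom (c x hx) = ξ x := by
  choose W hW c hc using fun x : X.cdPt m => exists_rep_pre T x M i n (ξ x)
  let V₁ : X.scheme.Opens := (S.inf W) ⊓ N
  have hV₁ : ContainsFj X m V₁ := fun z hz => by
    refine ⟨?_, hN z hz⟩
    show z ∈ S.inf W
    rw [← SetLike.mem_coe, Opens.coe_finset_inf]
    simpa using fun x _ => hW x z hz
  refine ⟨V₁, hV₁, inf_le_right, fun x hx => (T.pull ((X.ptSub x.1).resLE
    ((X.ptSubι x.1).preimage_mono (inf_le_left.trans (Finset.inf_le hx)))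
      ((dim_open_ptSub X x.1 _ (nonempty_preimage_ptSub (hV₁ _ x.2.le))).trans
        (dim_open_ptSub X x.1 _ (nonempty_preimage_ptSub (hW x _ x.2.le))).symm)) M i n).hom (c x),
    fun x hx => ?_⟩
  exact (ι_res (T := T) (U := preIdx X x.1 V₁ (hV₁ _ x.2.le)) (U' := preIdx X x.1 (W x) (hW x _ x.2.le))
    ((X.ptSubι x.1).preimage_mono (inf_le_left.trans (Finset.inf_le hx))) _ M i n (c x)).trans (hc x)

theorem pushTot_zero_injective (X : Obj V) [IsReduced X.scheme] (P : T.PushData X 0) (M : A.Cat)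
    (i n i' n' : ℤ) (hi : i' = i + 2 * ((0 : ℕ) : ℤ)) (hn : n' = n + ((0 : ℕ) : ℤ)) :
    Function.Injective (P.tot M i n i' n' hi hn).hom := by
  classical
  obtain rfl : i' = i := by simpa using hi
  obtain rfl : n' = n := by simpa using hn
  refine (injective_iff_map_eq_zero _).2 fun ξ h => DFinsupp.ext fun y => ?_
  let S := (finite_cdPt_zero X).toFinset
  have hS : ∀ x, x ∈ S := fun x => by simp [S]
  obtain ⟨N, hN, hcov⟩ := exists_covered X S hS
  obtain ⟨V₁, hV₁, hle', c₁', hc₁'⟩ := exists_common_rep T S M i' n' (fun x => ξ x) (N ⊓ disjOpen S)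
    fun z hz => ⟨hN z hz, containsFj_disjOpen S z hz⟩
  have hdW : ∀ (x : X.cdPt 0) (U U' : X.scheme.Opens), x.1 ∈ U → x.1 ∈ U' →
      dim ((X.ptSubι x.1 ⁻¹ᵁ U : _) : Scheme.{u}) = dim ((X.ptSubι x.1 ⁻¹ᵁ U' : _) : Scheme.{u}) :=
    fun x U U' hU hU' => (dim_open_ptSub X x.1 _ (nonempty_preimage_ptSub hU)).trans
      (dim_open_ptSub X x.1 _ (nonempty_preimage_ptSub hU')).symm
  have hpi : ∀ (x : X.cdPt 0) (U : X.scheme.Opens), ContainsFj X 0 U →
      i' = i' + 2 * relCodim ((X.ptSub x.1).res (X.ptSubι x.1 ⁻¹ᵁ U)).scheme (X.res U).scheme ∧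
      n' = n' + relCodim ((X.ptSub x.1).res (X.ptSubι x.1 ⁻¹ᵁ U)).scheme (X.res U).scheme :=
    fun x U hU => by
      rw [relCodim_preimage X x (hU _ x.2.le) ((Good.fj X 0).dim U hU)]; simp
  let b := ∑ x ∈ S, (T.push (X.ptSubι x.1 ∣_ V₁) M i' n' i' n' (hpi x V₁ hV₁).1
    (hpi x V₁ hV₁).2).hom (c₁' x (hS x))
  have hξ : ξ = ∑ x ∈ S, DirectSum.lof R (X.cdPt 0) (fun y : X.cdPt 0 => T.ptGp X y.1 M i' n') x (ξ x) := by
    refine DFinsupp.ext fun z => ?_
    rw [DFinsupp.finsetSum_apply, Finset.sum_eq_single z]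
    · exact (DirectSum.of_eq_same (β := fun y : X.cdPt 0 => T.ptGp X y.1 M i' n') z _).symm
    · exact fun x _ hxz => DirectSum.of_eq_of_ne x z _ hxz.symm
    · exact fun hh => absurd (hS z) hh
  have hb : ((T.fjι X 0 i' n' (fjIdx X V₁ hV₁)).app M).hom b = 0 := by
    rw [← h]
    conv_rhs => rw [hξ, map_sum]
    rw [map_sum]
    refine Finset.sum_congr rfl fun x _ => ?_
    rw [PreTheory.PushData.tot_lof, ← hc₁' x (hS x)]
    exact (pushData_eval P x hV₁ (hV₁ _ x.2.le) M i' n' i' n' hi hn _ _ _).symm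
  obtain ⟨⟨Vo, hV, hVd⟩, hVle, hb0⟩ :=
    (eq_zero_iff (T := T) (U := fjIdx X V₁ hV₁) (Good.fj X 0) M i' n' b).1 hb
  have hD : Disj S Vo := ⟨fun x _ => hV _ x.2.le,
    fun x hx z hz w hw => mem_disjOpen.1 (hle' (hVle hw)).2 x hx z hz⟩
  obtain ⟨r, hr⟩ := exists_union T hD M i' n' fun x _ =>
    (T.pull ((X.ptSub x.1).resLE ((X.ptSubι x.1).preimage_mono hVle)
      (hdW x _ _ (hV _ x.2.le) (hV₁ _ x.2.le))) M i' n').hom (c₁' x (hS x))
  have hk := relCodim_union hD hVd (hS y)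
  have hbij := push_union_bijective T hD (hS y) hVd (fun z hz => hcov z (hle' (hVle hz)).1) M i' n'
    (by rw [hk]; simp) (by rw [hk]; simp)
  have hr0 : r = 0 := by
    refine hbij.1 ?_
    beta_reduce
    refine Eq.trans ?_ (map_zero _).symm
    refine (push_union T hD M i' n' i' n' _ _ (fun x _ => hpi x Vo hV) r).trans (Eq.trans ?_ hb0)
    refine Eq.trans ?_ (map_sum _ _ _).symm
    rw [← Finset.sum_attach S]
    refine Finset.sum_congr rfl fun x _ => ?_
    rw [hr x.1 x.2]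
    exact (pull_push_restrict T (X.ptSubι x.1.1) hVle _ _ M i' n' i' n' _ _ _ _ (c₁' x.1 (hS x.1))).symm
  have hy := hr y (hS y)
  rw [hr0, map_zero] at hy
  rw [← hc₁' y (hS y), ← ι_res (T := T) (U := preIdx X y.1 Vo (hV _ y.2.le)) (U' := preIdx X y.1 V₁ (hV₁ _ y.2.le))
    ((X.ptSubι y.1).preimage_mono hVle) (hdW y _ _ (hV _ y.2.le) (hV₁ _ y.2.le)) M i' n' (c₁' y (hS y)), ← hy,
    map_zero]
  rfl

/-- Vanishing of the groups of `F_j` above the dimension. -/
theorem fjGp_isZero (X : Obj V) [IsReduced X.scheme] (M : A.Cat) (c : ℕ)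
    (hc : ∀ (y : X.scheme) (i n : ℤ), (pdim X.scheme y : ℤ) + c < i → IsZero (T.ptGp X y M i n))
    (j : ℕ) (i n : ℤ) (hi : (dim X.scheme : ℤ) + j + c < i) : IsZero (T.fjGp X j M i n) := by
  suffices h : Subsingleton (T.fjGp X j M i n) from ModuleCat.isZero_of_subsingleton _
  refine ⟨fun a b => ?_⟩
  suffices h : ∀ α : T.fjGp X j M i n, α = 0 from (h a).trans (h b).symm
  induction j with
  | zero =>
    refine fun α => (Submodule.mem_bot R).1 (exists_sum_pushes T X M i n i n rfl rfl ⊥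
      (fun x U hU hi' hn' c₀ => ?_) α)
    have hd := codim_add_pdim X x.1
    have := x.2
    haveI := ModuleCat.subsingleton_of_isZero (hc x.1 i n (by push_cast at hi; omega))
    exact (Submodule.mem_bot R).2 (fjι_push_eq_zero T x hU M _ _ i n hi' hn' c₀ (Subsingleton.elim _ _))
  | succ j ih =>
    intro α
    refine (Submodule.mem_bot R).1 (ker_fjRes_le T X j M (i - 2 * ((j : ℤ) + 1)) (n - ((j : ℤ) + 1)) i n
      (by push_cast; ring) (by push_cast; ring) ⊥ (fun x U hU hi' hn' c₀ => ?_) α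
      (ih (by push_cast at hi; omega) 0 0 _))
    have hd := codim_add_pdim X x.1
    have := x.2
    haveI := ModuleCat.subsingleton_of_isZero (hc x.1 (i - 2 * ((j : ℤ) + 1)) (n - ((j : ℤ) + 1))
      (by push_cast at hi; omega))
    exact (Submodule.mem_bot R).2 (fjι_push_eq_zero T x hU M _ _ i n hi' hn' c₀ (Subsingleton.elim _ _))

end Groth.Agent.H26BMCoh
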