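import Groth.Agent.H26BMCoh.Colim

/-!
# The Gysin sequence on elements, and the decompositions cut out by a closed immersion
-/

set_option autoImplicit false
set_option linter.style.haveILetI false

universe u

open AlgebraicGeometry CategoryTheory CategoryTheory.Limits TopologicalSpace Topology Opposite

namespace Groth.Agent.H26BMCoh

open BMCoh WeilCoh

variable {V : ObjectProperty Scheme.{u}} [IsConstructible V] {R : Type u} [CommRing R] {A : Coefs R}
  (T : PreTheory V R A)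

section Gysin

variable {X : Obj V} (D : Decomp X) (M : A.Cat) (i n i' n' : ℤ)

lemma exists_pull_of_res_eq_zero (hi : i' = i + 1 - 2 * D.codim) (hn : n' = n - D.codim)
    (a : T.gp D.U M i n) (h : (T.res D M i n i' n' hi hn).hom a = 0) :
    ∃ b, (T.pull D.j M i n).hom b = a :=
  (T.exact_pull_res D M i n i' n' hi hn a).1 h

lemma res_pull_eq_zero (hi : i' = i + 1 - 2 * D.codim) (hn : n' = n - D.codim) (b : T.gp X M i n) :
    (T.res D M i n i' n' hi hn).hom ((T.pull D.j M i n).hom b) = 0 :=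
  (T.exact_pull_res D M i n i' n' hi hn _).2 ⟨b, rfl⟩

lemma exists_push_of_pull_eq_zero (hi : i = i' + 2 * relCodim D.Z.scheme X.scheme)
    (hn : n = n' + relCodim D.Z.scheme X.scheme) (b : T.gp X M i n)
    (h : (T.pull D.j M i n).hom b = 0) : ∃ c, (T.push D.i M i' n' i n hi hn).hom c = b := by
  obtain ⟨i₀, rfl⟩ : ∃ i₀, i = i₀ + 1 := ⟨i - 1, by ring⟩
  exact (T.exact_push_pull D M i₀ n i' n' hi hn b).1 h

lemma pull_push_eq_zero (hi : i = i' + 2 * relCodim D.Z.scheme X.scheme)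
    (hn : n = n' + relCodim D.Z.scheme X.scheme) (c : T.gp D.Z M i' n') :
    (T.pull D.j M i n).hom ((T.push D.i M i' n' i n hi hn).hom c) = 0 := by
  obtain ⟨i₀, rfl⟩ : ∃ i₀, i = i₀ + 1 := ⟨i - 1, by ring⟩
  exact (T.exact_push_pull D M i₀ n i' n' hi hn _).2 ⟨c, rfl⟩

lemma push_res_eq_zero (hi : i' = i + 1 - 2 * D.codim) (hn : n' = n - D.codim) (k : ℤ) (hk : k = i + 1)
    (hi' : k = i' + 2 * relCodim D.Z.scheme X.scheme) (hn' : n = n' + relCodim D.Z.scheme X.scheme)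
    (a : T.gp D.U M i n) :
    (T.push D.i M i' n' k n hi' hn').hom ((T.res D M i n i' n' hi hn).hom a) = 0 := by
  subst hk
  exact (T.exact_res_push D M i n i' n' hi hn hi' hn' _).2 ⟨a, rfl⟩

lemma exists_res_of_push_eq_zero (hi : i' = i + 1 - 2 * D.codim) (hn : n' = n - D.codim) (k : ℤ)
    (hk : k = i + 1) (hi' : k = i' + 2 * relCodim D.Z.scheme X.scheme)
    (hn' : n = n' + relCodim D.Z.scheme X.scheme)
    (c : T.gp D.Z M i' n') (h : (T.push D.i M i' n' k n hi' hn').hom c = 0) :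
    ∃ a, (T.res D M i n i' n' hi hn).hom a = c := by
  subst hk
  exact (T.exact_res_push D M i n i' n' hi hn hi' hn' c).1 h

end Gysin

lemma relCodim_self (X : Scheme.{u}) : relCodim X X = 0 := sub_self _

lemma push_congr {X Y : Obj V} {f g : X.scheme ⟶ Y.scheme} [IsProper f] [IsProper g] (h : f = g)
    (M : A.Cat) (i n i' n' : ℤ) (hi hn) : T.push f M i n i' n' hi hn = T.push g M i n i' n' hi hn := by
  subst h; rfl

lemma pull_push {X Y X' Y' : Obj V} (f : X.scheme ⟶ Y.scheme) [IsProper f]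
    (f' : X'.scheme ⟶ Y'.scheme) [IsProper f'] (g : Y' ⟶ Y) (g' : X' ⟶ X)
    (h : IsPullback g'.hom f' f g.hom) (M : A.Cat) (i n i' n' : ℤ) (hi hn hi' hn') (c : T.gp X M i n) :
    (T.pull g M i' n').hom ((T.push f M i n i' n' hi hn).hom c) =
      (T.push f' M i n i' n' hi' hn').hom ((T.pull g' M i n).hom c) :=
  ConcreteCategory.congr_hom (T.push_pull f f' g g' h M i n i' n' hi hn hi' hn') c

/-- Pulling back along a morphism of objects after pushing along it, when it is proper. -/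
lemma pull_push_self {X Y : Obj V} (g : X ⟶ Y) [IsProper g.hom] (M : A.Cat) (i n : ℤ)
    (hi hn) (c : T.gp X M i n) :
    (T.pull g M i n).hom ((T.push g.hom M i n i n hi hn).hom c) = c := by
  rw [pull_push T g.hom (𝟙 X.scheme) g (𝟙 X) (IsKernelPair.id_of_mono g.hom) M i n i n hi hn
    (by rw [relCodim_self]; ring) (by rw [relCodim_self]; ring), pull_id, T.push_id]
  rfl

/-! ### Decompositions cut out by a closed immersion -/

variable {X Z : Obj V} (ι : Z.scheme ⟶ X.scheme)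

/-- The open set `Vo` minus the image of the complement of `W`. -/
noncomputable def cut [IsClosedImmersion ι] (Vo : X.scheme.Opens) (W : Z.scheme.Opens) : X.scheme.Opens :=
  Vo ⊓ ⟨(ι '' (W : Set Z.scheme)ᶜ)ᶜ, (ι.isClosedEmbedding.isClosedMap _ W.2.isClosed_compl).isOpen_compl⟩

lemma mem_cut [IsClosedImmersion ι] {Vo : X.scheme.Opens} {W : Z.scheme.Opens} {y : X.scheme} :
    y ∈ cut ι Vo W ↔ y ∈ Vo ∧ ∀ z, ι z = y → z ∈ W := by
  show y ∈ Vo ∧ y ∉ ι '' (W : Set Z.scheme)ᶜ ↔ _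
  refine and_congr_right fun _ => ⟨fun h z hz => by_contra fun hzW => h ⟨z, hzW, hz⟩, ?_⟩
  rintro h ⟨z, hzW, hz⟩
  exact hzW (h z hz)

lemma preimage_cut [IsClosedImmersion ι] (Vo : X.scheme.Opens) (W : Z.scheme.Opens) :
    ι ⁻¹ᵁ cut ι Vo W = ι ⁻¹ᵁ Vo ⊓ W := by
  ext z
  show ι z ∈ cut ι Vo W ↔ ι z ∈ Vo ∧ z ∈ W
  rw [mem_cut]
  exact and_congr_right fun _ =>
    ⟨fun h => h z rfl, fun h w hw => (ι.isClosedEmbedding.injective hw) ▸ h⟩

lemma cut_le [IsClosedImmersion ι] (Vo : X.scheme.Opens) (W : Z.scheme.Opens) : cut ι Vo W ≤ Vo :=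
  inf_le_left

/-- The decomposition of `Vo` into its intersection with the closed subscheme and the rest. -/
noncomputable def lDec [IsClosedImmersion ι] (U Vo : X.scheme.Opens)
    (hUV : (U : Set X.scheme) = (Vo : Set X.scheme) \ Set.range ι)
    (hd : dim (U : Scheme.{u}) = dim (Vo : Scheme.{u})) : Decomp (X.res Vo) where
  Z := Z.res (ι ⁻¹ᵁ Vo)
  U := X.res U
  i := ι ∣_ Vo
  closedImm := IsZariskiLocalAtTarget.restrict ‹IsClosedImmersion ι› Vo
  j := X.resLE (fun y hy => ((Set.ext_iff.1 hUV y).1 hy).1) hd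
  range_eq := by
    ext ⟨y, hy⟩
    constructor
    · rintro ⟨⟨w, hw⟩, he⟩ ⟨⟨z, hz⟩, he'⟩
      have h1 : w = y := by
        have := congrArg Vo.ι he
        simpa [Obj.resLE, ← Scheme.Hom.comp_apply] using this
      have h2 : ι z = y := by
        have := congrArg Vo.ι he'
        simpa [← Scheme.Hom.comp_apply] using this
      exact ((Set.ext_iff.1 hUV w).1 hw).2 ⟨z, h2.trans h1.symm⟩
    · intro h
      refine ⟨⟨y, (Set.ext_iff.1 hUV y).2 ⟨hy, ?_⟩⟩, Vo.ι.isOpenEmbedding.injective ?_⟩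
      · rintro ⟨z, hz⟩
        refine h ⟨⟨z, show ι z ∈ Vo from hz ▸ hy⟩, Vo.ι.isOpenEmbedding.injective ?_⟩
        simpa [← Scheme.Hom.comp_apply] using hz
      · simp [Obj.resLE, ← Scheme.Hom.comp_apply]

lemma isPullback_restrict {Vo' Vo : X.scheme.Opens} (h : Vo' ≤ Vo) :
    IsPullback (Z.scheme.homOfLE (ι.preimage_mono h)) (ι ∣_ Vo') (ι ∣_ Vo) (X.scheme.homOfLE h) := by
  have h1 := (isPullback_morphismRestrict ι Vo').flip
  rw [← X.scheme.homOfLE_ι h, ← Z.scheme.homOfLE_ι (ι.preimage_mono h)] at h1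
  refine h1.of_right ?_ (isPullback_morphismRestrict ι Vo).flip
  rw [← cancel_mono Vo.ι, Category.assoc, Category.assoc, morphismRestrict_ι, Scheme.homOfLE_ι_assoc,
    Scheme.homOfLE_ι, morphismRestrict_ι]

instance [IsClosedImmersion ι] (Vo : X.scheme.Opens) : IsClosedImmersion (ι ∣_ Vo) :=
  IsZariskiLocalAtTarget.restrict ‹IsClosedImmersion ι› Vo

instance [IsProper ι] (Vo : X.scheme.Opens) : IsProper (ι ∣_ Vo) :=
  IsZariskiLocalAtTarget.restrict ‹IsProper ι› Vo

/-- Base change of push-forward along a restricted proper map. -/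
lemma pull_push_restrict [IsProper ι] {Vo' Vo : X.scheme.Opens} (h : Vo' ≤ Vo) (hd hdW) (M : A.Cat)
    (i n i' n' : ℤ) (hi hn hi' hn') (c : T.gp (Z.res (ι ⁻¹ᵁ Vo)) M i n) :
    (T.pull (X.resLE h hd) M i' n').hom ((T.push (ι ∣_ Vo) M i n i' n' hi hn).hom c) =
      (T.push (ι ∣_ Vo') M i n i' n' hi' hn').hom
        ((T.pull (Z.resLE (ι.preimage_mono h) hdW) M i n).hom c) :=
  pull_push T (X := Z.res (ι ⁻¹ᵁ Vo)) (Y := X.res Vo) (X' := Z.res (ι ⁻¹ᵁ Vo')) (Y' := X.res Vo') (ι ∣_ Vo) (ι ∣_ Vo') (X.resLE h hd)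
    (Z.resLE (ι.preimage_mono h) hdW) (isPullback_restrict ι h) M i n i' n' hi hn hi' hn' c

/-- The residues of the decompositions of nested opens agree. -/
lemma res_restrict [IsClosedImmersion ι] {U U' Vo Vo' : X.scheme.Opens} (hV : Vo' ≤ Vo) (hU : U' ≤ U)
    (hUV : (U : Set X.scheme) = (Vo : Set X.scheme) \ Set.range ι) (hd)
    (hUV' : (U' : Set X.scheme) = (Vo' : Set X.scheme) \ Set.range ι) (hd')
    (hdU hdW) (hdV : dim (Vo' : Scheme.{u}) = dim (Vo : Scheme.{u}))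
    (M : A.Cat) (i n i' n' : ℤ) (hi hn hi' hn') (a : T.gp (X.res U) M i n) :
    (T.pull (Z.resLE (ι.preimage_mono hV) hdW) M i' n').hom
        ((T.res (lDec ι U Vo hUV hd) M i n i' n' hi hn).hom a) =
      (T.res (lDec ι U' Vo' hUV' hd') M i n i' n' hi' hn').hom
        ((T.pull (X.resLE hU hdU) M i n).hom a) := by
  refine ConcreteCategory.congr_hom (T.res_pull (lDec ι U Vo hUV hd) (lDec ι U' Vo' hUV' hd')
    (X.resLE hV hdV) (Z.resLE (ι.preimage_mono hV) hdW) (X.resLE hU hdU)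
    (isPullback_restrict ι hV).w ?_ M i n i' n' hi hn hi' hn') a
  refine hom_ext_res ?_
  simp [lDec, Obj.resLE]

end Groth.Agent.H26BMCoh
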