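import Groth.Agent.H26BMCoh.Gysin

/-!
# The decompositions cut out by the closure of a point
-/

set_option autoImplicit false
set_option linter.style.haveILetI false

universe u

open AlgebraicGeometry CategoryTheory CategoryTheory.Limits TopologicalSpace Topology Opposite

namespace Groth.Agent.H26BMCoh

open BMCoh WeilCoh

variable {V : ObjectProperty Scheme.{u}} [IsConstructible V] {R : Type u} [CommRing R] {A : Coefs R}

lemma mem_range_ptSubι {X : Obj V} {x y : X.scheme} : y ∈ Set.range (X.ptSubι x) ↔ x ⤳ y := by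
  rw [range_ptSubι, specializes_iff_mem_closure]

lemma nonempty_preimage_ptSub {X : Obj V} {x : X.scheme} {Vo : X.scheme.Opens} (hx : x ∈ Vo) :
    ((X.ptSubι x ⁻¹ᵁ Vo : (X.ptSub x).scheme.Opens) : Set (X.ptSub x).scheme).Nonempty :=
  ⟨ptGen X x, show X.ptSubι x (ptGen X x) ∈ Vo by rw [ptSubι_ptGen]; exact hx⟩

/-- The index cut out on the closure of a point by an open containing it. -/
noncomputable abbrev preIdx (X : Obj V) (x : X.scheme) (Vo : X.scheme.Opens) (hx : x ∈ Vo) : ptIdx X x :=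
  ptIdxMk X x (X.ptSubι x ⁻¹ᵁ Vo) (nonempty_preimage_ptSub hx)

lemma relCodim_preimage (X : Obj V) {j : ℕ} (x : X.cdPt j) {Vo : X.scheme.Opens} (hx : x.1 ∈ Vo)
    (hd : dim (Vo : Scheme.{u}) = dim X.scheme) :
    relCodim ((X.ptSub x.1).res (X.ptSubι x.1 ⁻¹ᵁ Vo)).scheme (X.res Vo).scheme = (j : ℤ) := by
  have h1 := dim_open_ptSub X x.1 _ (nonempty_preimage_ptSub hx)
  have h2 := codim_add_pdim X x.1
  rw [x.2] at h2
  show (dim (Vo : Scheme.{u}) : ℤ) - (dim ((X.ptSubι x.1 ⁻¹ᵁ Vo : _) : Scheme.{u}) : ℤ) = _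
  omega

lemma codim_lDec (X : Obj V) {j : ℕ} (x : X.cdPt j) {U Vo : X.scheme.Opens}
    (hUV : (U : Set X.scheme) = (Vo : Set X.scheme) \ Set.range (X.ptSubι x.1))
    (hd : dim (U : Scheme.{u}) = dim (Vo : Scheme.{u})) (hx : x.1 ∈ Vo)
    (hdV : dim (Vo : Scheme.{u}) = dim X.scheme) :
    (lDec (X.ptSubι x.1) U Vo hUV hd).codim = (j : ℤ) :=
  relCodim_preimage X x hx hdV

/-- An open containing `F_j` still does after cutting it along a piece of the closure of a point. -/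
lemma containsFj_cut {X : Obj V} {j m : ℕ} (x : X.cdPt m) (hjm : j ≤ m) {Vo : X.scheme.Opens}
    (hVo : ContainsFj X j Vo) {W : (X.ptSub x.1).scheme.Opens}
    (hW : (W : Set (X.ptSub x.1).scheme).Nonempty) :
    ContainsFj X j (cut (X.ptSubι x.1) Vo W) := by
  intro y hy
  rw [mem_cut]
  refine ⟨hVo y hy, fun z hz => ?_⟩
  by_cases hxy : x.1 = y
  · have : z = ptGen X x.1 :=
      (X.ptSubι x.1).isClosedEmbedding.injective (by rw [ptSubι_ptGen, hz, hxy])
    exact this ▸ ptGen_mem X x.1 hW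
  · have h := codim_lt X (hz ▸ specializes_ptSubι X x.1 z : x.1 ⤳ y) hxy
    rw [x.2] at h
    omega

/-- Removing the closure of a point of larger codimension. -/
noncomputable def remove (X : Obj V) (U : X.scheme.Opens) (x : X.scheme) : X.scheme.Opens :=
  U ⊓ ⟨(Set.range (X.ptSubι x))ᶜ, (X.ptSubι x).isClosedEmbedding.isClosed_range.isOpen_compl⟩

lemma coe_remove (X : Obj V) (U : X.scheme.Opens) (x : X.scheme) :
    (remove X U x : Set X.scheme) = (U : Set X.scheme) \ Set.range (X.ptSubι x) := rfl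

lemma remove_le (X : Obj V) (U : X.scheme.Opens) (x : X.scheme) : remove X U x ≤ U := inf_le_left

lemma containsFj_remove {X : Obj V} {j : ℕ} (x : X.cdPt (j + 1)) {U : X.scheme.Opens}
    (hU : ContainsFj X j U) : ContainsFj X j (remove X U x.1) := fun y hy => by
  refine ⟨hU y hy, fun h => ?_⟩
  have hxy := mem_range_ptSubι.1 h
  by_cases hne : x.1 = y
  · have := x.2; rw [hne] at this; omega
  · have := codim_lt X hxy hne
    have := x.2
    omega

/-- A point of codimension `j + 1` outside an open containing `F_j` can be added to it alone. -/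
lemma exists_add {X : Obj V} {j : ℕ} (x : X.cdPt (j + 1)) {U Vb : X.scheme.Opens}
    (hU : ContainsFj X j U) (hUVb : U ≤ Vb) (hx : x.1 ∈ Vb) (hxU : x.1 ∉ U) :
    ∃ V0 : X.scheme.Opens, x.1 ∈ V0 ∧ V0 ≤ Vb ∧ U ≤ V0 ∧
      (U : Set X.scheme) = (V0 : Set X.scheme) \ Set.range (X.ptSubι x.1) := by
  have hcod : ∀ z ∈ (U : Set X.scheme)ᶜ, j < codim X.scheme z := fun z hz =>
    not_le.1 fun h => hz (hU z h)
  obtain ⟨C, hC, hCZ, hZC, hxC⟩ := exists_rest X U.2.isClosed_compl (maximal_of_codim X hcod x.2)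
  have hdis : ∀ y ∈ U, y ∉ Set.range (X.ptSubι x.1) := fun y hy h =>
    hxU ((mem_range_ptSubι.1 h).mem_open U.2 hy)
  refine ⟨Vb ⊓ ⟨Cᶜ, hC.isOpen_compl⟩, ⟨hx, hxC⟩, inf_le_left, fun y hy => ⟨hUVb hy, fun h => hCZ h hy⟩,
    Set.ext fun y => ⟨fun hy => ⟨⟨hUVb hy, fun h => hCZ h hy⟩, hdis y hy⟩, fun hy => ?_⟩⟩
  by_contra hyU
  rcases hZC hyU with h | h
  · exact hy.1.2 h
  · exact hy.2 (by rwa [range_ptSubι])

lemma finite_missing (X : Obj V) {j : ℕ} {U : X.scheme.Opens} (hU : ContainsFj X j U) :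
    {x : X.cdPt (j + 1) | x.1 ∉ U}.Finite := by
  refine ((finite_maximal X U.2.isClosed_compl).preimage Subtype.val_injective.injOn).subset fun x hx => ?_
  exact ⟨hx, maximal_of_codim X (Z := (U : Set X.scheme)ᶜ) (fun z hz => not_le.1 fun h => hz (hU z h)) x.2⟩

lemma containsFj_succ {X : Obj V} {j : ℕ} {U : X.scheme.Opens} (hU : ContainsFj X j U)
    (h : ∀ x : X.cdPt (j + 1), x.1 ∈ U) : ContainsFj X (j + 1) U := fun y hy => by
  by_cases hj : codim X.scheme y ≤ j
  · exact hU y hj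
  · exact h ⟨y, by omega⟩

variable {T : PreTheory V R A}

/-- The value of push-forward data. -/
lemma pushData_eval {X : Obj V} {j : ℕ} (P : T.PushData X j) (x : X.cdPt j) {U : X.scheme.Opens}
    (hU : ContainsFj X j U) (hx : x.1 ∈ U) (M : A.Cat) (i n i' n' : ℤ) (hi : i' = i + 2 * (j : ℤ))
    (hn : n' = n + (j : ℤ)) (hi' hn') (c : T.gp ((X.ptSub x.1).res (X.ptSubι x.1 ⁻¹ᵁ U)) M i n) :
    (P.cpt x M i n i' n' hi hn).hom (((T.ptι X x.1 i n (preIdx X x.1 U hx)).app M).hom c) =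
      ((T.fjι X j i' n' (fjIdx X U hU)).app M).hom
        ((T.push (X.ptSubι x.1 ∣_ U) M i n i' n' hi' hn').hom c) :=
  ConcreteCategory.congr_hom (P.cpt_spec x M i n i' n' hi hn (fjIdx X U hU) (preIdx X x.1 U hx)
    (X.ptSubι x.1 ∣_ U) (morphismRestrict_ι _ U) hi' hn') c

/-- The value of residue data. -/
lemma resData_eval {X : Obj V} {j : ℕ} (Q : T.ResData X j) (x : X.cdPt (j + 1)) {U Vo : X.scheme.Opens}
    (hU : ContainsFj X j U) (hx : x.1 ∈ Vo)
    (hUV : (U : Set X.scheme) = (Vo : Set X.scheme) \ Set.range (X.ptSubι x.1))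
    (hd : dim (U : Scheme.{u}) = dim (Vo : Scheme.{u}))
    (M : A.Cat) (i n i' n' : ℤ) (hi : i' = i + 1 - 2 * ((j : ℤ) + 1)) (hn : n' = n - ((j : ℤ) + 1))
    (hi' hn') (a : T.gp (X.res U) M i n) :
    (Q.cpt x M i n i' n' hi hn).hom (((T.fjι X j i n (fjIdx X U hU)).app M).hom a) =
      ((T.ptι X x.1 i' n' (preIdx X x.1 Vo hx)).app M).hom
        ((T.res (lDec (X.ptSubι x.1) U Vo hUV hd) M i n i' n' hi' hn').hom a) := by
  have hdV : dim (Vo : Scheme.{u}) = dim X.scheme := hd.symm.trans ((Good.fj X j).dim U hU)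
  have h := ConcreteCategory.congr_hom (Q.cpt_spec x M i n i' n' hi hn (X.resι Vo hdV)
    (lDec (X.ptSubι x.1) U Vo hUV hd) (preIdx X x.1 Vo hx) (𝟙 _)
    (by simp [lDec, Obj.resι]) (fjIdx X U hU) (𝟙 _)
    (by simp [lDec, Obj.resι, Obj.resLE]) hi' hn') a
  simp only [ModuleCat.hom_comp, LinearMap.comp_apply] at h
  erw [pull_id, pull_id] at h
  exact h

end Groth.Agent.H26BMCoh
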