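import Groth.Agent.H26BMCoh.PtPush
import Groth.Agent.H26BMCoh.Maps
import Groth.Agent.H26BMCoh.NormIso

/-!
# Push-forward between groups of points along a birational map
-/

set_option autoImplicit false
set_option linter.style.haveILetI false

universe u

open AlgebraicGeometry CategoryTheory CategoryTheory.Limits TopologicalSpace Topology Opposite

namespace Groth.Agent.H26BMCoh

open BMCoh WeilCoh

variable {V : ObjectProperty Scheme.{u}} [IsConstructible V] {R : Type u} [CommRing R] {A : Coefs R}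
  (T : PreTheory V R A)

lemma isIso_restrict_of_le {X Y : Scheme.{u}} (f : X ⟶ Y) {U U' : Y.Opens} (h : U' ≤ U)
    [IsIso (f ∣_ U)] : IsIso (f ∣_ U') := by
  have he : U.ι ''ᵁ (U.ι ⁻¹ᵁ U') = U' := by
    rw [Scheme.Hom.image_preimage_eq_opensRange_inf, Scheme.Opens.opensRange_ι, inf_eq_right.2 h]
  have h1 : IsIso ((f ∣_ U) ∣_ (U.ι ⁻¹ᵁ U')) :=
    IsZariskiLocalAtTarget.restrict (P := MorphismProperty.isomorphisms Scheme.{u}) (f := f ∣_ U) ‹_› _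
  exact ((MorphismProperty.isomorphisms Scheme.{u}).arrow_mk_iso_iff
    (morphismRestrictRestrict f U _ ≪≫ morphismRestrictEq f he)).1 h1

/-- Push-forward along an isomorphism of objects is bijective. -/
lemma push_bijective_of_isIso {X Y : Obj V} (g : X.scheme ⟶ Y.scheme) [IsIso g] [IsProper g]
    (hd : dim X.scheme = dim Y.scheme) (M : A.Cat) (i n : ℤ) (hi hn) :
    Function.Bijective (T.push g M i n i n hi hn).hom := by
  let g' : X ⟶ Y := ⟨g, inferInstance, hd⟩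
  have hb : Function.Bijective (T.pull g' M i n).hom :=
    pull_bijective_of_iso T g' ⟨inv g, inferInstance, hd.symm⟩
      (Hom.ext (IsIso.hom_inv_id _)) (Hom.ext (IsIso.inv_hom_id _)) M i n
  haveI : IsProper g'.hom := ‹IsProper g›
  have hl : ∀ c, (T.pull g' M i n).hom ((T.push g'.hom M i n i n hi hn).hom c) = c :=
    pull_push_self T g' M i n hi hn
  exact ⟨Function.LeftInverse.injective hl, fun b => ⟨(T.pull g' M i n).hom b, hb.1 (hl _)⟩⟩

theorem ptPush_bijective {X Y : Obj V} (φ : Y.scheme ⟶ X.scheme) (y : Y.scheme) (x : X.scheme)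
    (L : T.PtPush φ y x) (ψ : (Y.ptSub y).scheme ⟶ (X.ptSub x).scheme) [IsProper ψ]
    (hψ : ψ ≫ X.ptSubι x = Y.ptSubι y ≫ φ) (W₀ : (X.ptSub x).scheme.Opens)
    (hW₀ : (W₀ : Set (X.ptSub x).scheme).Nonempty) [IsIso (ψ ∣_ W₀)] (M : A.Cat) (i n : ℤ) :
    Function.Bijective (L.cpt M i n).hom := by
  have hyx : pdim Y.scheme y = pdim X.scheme x := by
    have h := L.codim_eq
    unfold relCodim at h
    rw [dim_ptSub, dim_ptSub] at h
    omega
  have hne : ∀ W1 : (X.ptSub x).scheme.Opens, W1 ≤ W₀ → (W1 : Set (X.ptSub x).scheme).Nonempty →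
      (ψ ⁻¹ᵁ W1 : Set (Y.ptSub y).scheme).Nonempty := fun W1 h ⟨z, hz⟩ => by
    haveI := isIso_restrict_of_le ψ h
    exact ⟨((inv (ψ ∣_ W1)) ⟨z, hz⟩).1, ((inv (ψ ∣_ W1)) ⟨z, hz⟩).2⟩
  have hd : ∀ W1 : (X.ptSub x).scheme.Opens, W1 ≤ W₀ → (W1 : Set (X.ptSub x).scheme).Nonempty →
      dim ((ψ ⁻¹ᵁ W1 : _) : Scheme.{u}) = dim (W1 : Scheme.{u}) := fun W1 h h' =>
    (dim_open_ptSub Y y _ (hne W1 h h')).trans (hyx.trans (dim_open_ptSub X x W1 h').symm)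
  have hc : ∀ W1 : (X.ptSub x).scheme.Opens, W1 ≤ W₀ → (W1 : Set (X.ptSub x).scheme).Nonempty →
      i = i + 2 * relCodim ((Y.ptSub y).res (ψ ⁻¹ᵁ W1)).scheme ((X.ptSub x).res W1).scheme ∧
      n = n + relCodim ((Y.ptSub y).res (ψ ⁻¹ᵁ W1)).scheme ((X.ptSub x).res W1).scheme := fun W1 h h' => by
    have : relCodim ((Y.ptSub y).res (ψ ⁻¹ᵁ W1)).scheme ((X.ptSub x).res W1).scheme = 0 := by
      show (dim (W1 : Scheme.{u}) : ℤ) - (dim ((ψ ⁻¹ᵁ W1 : _) : Scheme.{u}) : ℤ) = 0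
      rw [hd W1 h h', sub_self]
    rw [this]; simp
  have hL : ∀ (W1 : (X.ptSub x).scheme.Opens) (h : W1 ≤ W₀) (h' : (W1 : Set (X.ptSub x).scheme).Nonempty)
      (c : T.gp ((Y.ptSub y).res (ψ ⁻¹ᵁ W1)) M i n),
      (L.cpt M i n).hom (((T.ptι Y y i n (ptIdxMk Y y _ (hne W1 h h'))).app M).hom c) =
        ((T.ptι X x i n (ptIdxMk X x W1 h')).app M).hom
          ((T.push (ψ ∣_ W1) M i n i n (hc W1 h h').1 (hc W1 h h').2).hom c) := fun W1 h h' c =>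
    ConcreteCategory.congr_hom (L.cpt_spec M i n (ptIdxMk Y y _ (hne W1 h h')) (ptIdxMk X x W1 h')
      (ψ ∣_ W1) (by rw [morphismRestrict_ι_assoc, hψ]) (hc W1 h h').1 (hc W1 h h').2) c
  constructor
  · refine (injective_iff_map_eq_zero _).2 fun a ha => ?_
    obtain ⟨⟨W, hW, hWd⟩, b, rfl⟩ := exists_rep (T := T) (Good.pt Y y) M i n a
    let q := inv (ψ ∣_ W₀) ≫ (ψ ⁻¹ᵁ W₀).ι
    let W1 : (X.ptSub x).scheme.Opens := W₀.ι ''ᵁ (q ⁻¹ᵁ W)
    have h1 : W1 ≤ W₀ := by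
      rintro z ⟨w, -, rfl⟩
      exact w.2
    have hle : ψ ⁻¹ᵁ W1 ≤ W := fun z hz => by
      obtain ⟨w, hw, hwz⟩ := hz
      let z' : (ψ ⁻¹ᵁ W₀ : _) := ⟨z, show ψ z ∈ W₀ from hwz ▸ w.2⟩
      have : (ψ ∣_ W₀) z' = w := W₀.ι.isOpenEmbedding.injective (by
        rw [← Scheme.Hom.comp_apply, morphismRestrict_ι]; exact hwz.symm)
      rw [← this] at hw
      have h2 : ((ψ ∣_ W₀) ≫ q) z' ∈ W := hw
      simp only [q, IsIso.hom_inv_id_assoc] at h2
      exact h2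
    have h1' : (W1 : Set (X.ptSub x).scheme).Nonempty := by
      obtain ⟨z, hzy⟩ := hne W₀ le_rfl hW₀
      have hg : ptGen Y y ∈ ψ ⁻¹ᵁ W₀ := ptGen_mem Y y ⟨z, hzy⟩
      refine ⟨W₀.ι ((ψ ∣_ W₀) ⟨ptGen Y y, hg⟩), (ψ ∣_ W₀) ⟨ptGen Y y, hg⟩, ?_, rfl⟩
      show ((ψ ∣_ W₀) ≫ q) ⟨ptGen Y y, hg⟩ ∈ W
      simp only [q, IsIso.hom_inv_id_assoc]
      exact ptGen_mem Y y hW
    have d1 := (Good.pt Y y).dim _ (hne W1 h1 h1')
    have he := ι_res (T := T) (U := ptIdxMk Y y _ (hne W1 h1 h1')) (U' := ⟨W, hW, hWd⟩) hle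
      (d1.trans hWd.symm) M i n b
    rw [← he] at ha ⊢
    rw [hL W1 h1 h1'] at ha
    obtain ⟨⟨W2, hW2, hW2d⟩, h21, h0⟩ :=
      (eq_zero_iff (T := T) (U := ptIdxMk X x W1 h1') (Good.pt X x) M i n _).1 ha
    have h20 : W2 ≤ W₀ := le_trans h21 h1
    haveI := isIso_restrict_of_le ψ h20
    haveI : IsProper (ψ ∣_ W2) := IsZariskiLocalAtTarget.restrict ‹IsProper ψ› W2
    have d2 := (Good.pt Y y).dim _ (hne W2 h20 hW2)
    refine (eq_zero_iff (T := T) (U := ptIdxMk Y y _ (hne W1 h1 h1')) (Good.pt Y y) M i n _).2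
      ⟨ptIdxMk Y y _ (hne W2 h20 hW2), ψ.preimage_mono h21, ?_⟩
    refine (push_bijective_of_isIso T (X := (Y.ptSub y).res (ψ ⁻¹ᵁ W2)) (Y := (X.ptSub x).res W2) (ψ ∣_ W2)
      (hd W2 h20 hW2) M i n (hc W2 h20 hW2).1 (hc W2 h20 hW2).2).1 ?_
    refine Eq.trans ?_ (map_zero _).symm
    exact (pull_push_restrict T ψ h21 _ (d2.trans d1.symm) M i n i n _ _ _ _ _).symm.trans h0
  · intro β
    obtain ⟨⟨W, hW, hWd⟩, b, rfl⟩ := exists_rep (T := T) (Good.pt X x) M i n β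
    have h1' : ((W ⊓ W₀ : _) : Set (X.ptSub x).scheme).Nonempty := (Good.pt X x).inf _ _ hW hW₀
    haveI := isIso_restrict_of_le ψ (inf_le_right : W ⊓ W₀ ≤ W₀)
    obtain ⟨c, hcc⟩ := (push_bijective_of_isIso T (X := (Y.ptSub y).res (ψ ⁻¹ᵁ (W ⊓ W₀)))
      (Y := (X.ptSub x).res (W ⊓ W₀)) (ψ ∣_ (W ⊓ W₀)) (hd _ inf_le_right h1') M i n
      (hc _ inf_le_right h1').1 (hc _ inf_le_right h1').2).2
        ((T.pull ((X.ptSub x).resLE (inf_le_left : W ⊓ W₀ ≤ W) (((Good.pt X x).dim _ h1').trans hWd.symm)) M i n).hom b)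
    refine ⟨((T.ptι Y y i n (ptIdxMk Y y _ (hne _ inf_le_right h1'))).app M).hom c, ?_⟩
    rw [hL _ inf_le_right h1', hcc]
    exact ι_res (T := T) (U := ptIdxMk X x _ h1') (U' := ⟨W, hW, hWd⟩) inf_le_left _ M i n b

theorem ptPush_bijective_normalization (X : Obj V) (w : X.scheme) [IsIntegral (X.ptSub w).scheme]
    [QuasiCompact ((X.ptSub w).scheme.fromSpecStalk (genericPoint (X.ptSub w).scheme))]
    [QuasiSeparated ((X.ptSub w).scheme.fromSpecStalk (genericPoint (X.ptSub w).scheme))]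
    (Y : Obj V) [IsIntegral Y.scheme] (e : Y.scheme ≅ Curv2.normalization (X.ptSub w).scheme)
    (φ : Y.scheme ⟶ X.scheme) [IsProper φ]
    (hφ : φ = e.hom ≫ Curv2.normalizationι (X.ptSub w).scheme ≫ X.ptSubι w)
    (L : T.PtPush φ (genericPoint Y.scheme) w) (M : A.Cat) (i n : ℤ) :
    Function.Bijective (L.cpt M i n).hom := by
  let ν := Curv2.normalizationι (X.ptSub w).scheme
  haveI : IsProper ((e.hom ≫ ν) ≫ X.ptSubι w) := by rw [Category.assoc, ← hφ]; infer_instance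
  haveI : IsProper (e.hom ≫ ν) := IsProper.of_comp _ (X.ptSubι w)
  haveI : IsProper ν := by
    have : IsProper (e.inv ≫ e.hom ≫ ν) := inferInstance
    rwa [e.inv_hom_id_assoc] at this
  haveI : IsIntegralHom ν := Groth.Agent.H22Alg.NormalizationDimOne.isIntegralHom_normalizationι _
  haveI : IsFinite ν := (IsFinite.iff_isIntegralHom_and_locallyOfFiniteType ν).2 ⟨inferInstance, inferInstance⟩
  obtain ⟨W₀, hW₀, hiso⟩ := exists_isIso_normalization (X.ptSub w).scheme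
  let η := genericPoint Y.scheme
  haveI : Surjective (Y.ptSubι η) := ⟨fun z => mem_range_ptSubι.2 (genericPoint_specializes z)⟩
  haveI : IsIso (Y.ptSubι η) := isIso_of_isClosedImmersion_of_surjective _
  haveI : IsIso (Y.ptSubι η ≫ e.hom) := inferInstance
  have hι : IsIso ((Y.ptSubι η ≫ e.hom) ∣_ (ν ⁻¹ᵁ W₀)) :=
    IsZariskiLocalAtTarget.restrict (P := MorphismProperty.isomorphisms Scheme.{u}) (f := Y.ptSubι η ≫ e.hom) ‹_› _
  haveI : IsIso (((Y.ptSubι η ≫ e.hom) ≫ ν) ∣_ W₀) := by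
    rw [morphismRestrict_comp]
    haveI : IsIso (ν ∣_ W₀) := hiso
    exact IsIso.comp_isIso' hι hiso
  exact ptPush_bijective T φ η w L ((Y.ptSubι η ≫ e.hom) ≫ ν)
    (by rw [Category.assoc, Category.assoc, ← hφ]) W₀ hW₀ M i n

end Groth.Agent.H26BMCoh
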