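import Groth.Agent.H26BMCoh.Point

/-!
# The steps from `F_{j+1}` to `F_j`, one point at a time
-/

set_option autoImplicit false
set_option linter.style.haveILetI false

universe u

open AlgebraicGeometry CategoryTheory CategoryTheory.Limits TopologicalSpace Topology Opposite

namespace Groth.Agent.H26BMCoh

open BMCoh WeilCoh

variable {V : ObjectProperty Scheme.{u}} [IsConstructible V] {R : Type u} [CommRing R] {A : Coefs R}
  (T : PreTheory V R A)

/-- The kernel of `F_{j+1} → F_j` is spanned by the classes pushed from the points of codimension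
`j + 1`. -/
theorem ker_fjRes_le (X : Obj V) (j : ℕ) (M : A.Cat) (i n i' n' : ℤ)
    (hi : i' = i + 2 * ((j + 1 : ℕ) : ℤ)) (hn : n' = n + ((j + 1 : ℕ) : ℤ))
    (S : Submodule R (T.fjGp X (j + 1) M i' n'))
    (hS : ∀ (x : X.cdPt (j + 1)) (U : X.scheme.Opens) (hU : ContainsFj X (j + 1) U) (hi' hn')
      (c : T.gp ((X.ptSub x.1).res (X.ptSubι x.1 ⁻¹ᵁ U)) M i n),
      ((T.fjι X (j + 1) i' n' (fjIdx X U hU)).app M).hom
        ((T.push (X.ptSubι x.1 ∣_ U) M i n i' n' hi' hn').hom c) ∈ S)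
    (α : T.fjGp X (j + 1) M i' n') (hα : ((T.fjRes X (Nat.le_succ j) i' n').app M).hom α = 0) :
    α ∈ S := by
  obtain ⟨⟨Vb, hVb, hVbd⟩, b, rfl⟩ := exists_rep (T := T) (Good.fj X (j + 1)) M i' n' α
  rw [fjRes_ι] at hα
  obtain ⟨⟨U, hU, hUd⟩, hle, hb⟩ := (eq_zero_iff (T := T) (U := fjIdx X Vb (containsFj_mono X (Nat.le_succ j) Vb hVb))
    (Good.fj X j) M i' n' b).1 hα
  clear hα
  suffices h : ∀ (k : ℕ) (Vb U : X.scheme.Opens) (hVb : ContainsFj X (j + 1) Vb)
      (hU : ContainsFj X j U) (hle : U ≤ Vb) (hd) (b : T.gp (X.res Vb) M i' n'),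
      (finite_missing X hU).toFinset.card = k → (T.pull (X.resLE hle hd) M i' n').hom b = 0 →
      ((T.fjι X (j + 1) i' n' (fjIdx X Vb hVb)).app M).hom b ∈ S from
    h _ Vb U hVb hU hle _ b rfl hb
  intro k
  induction k using Nat.strong_induction_on with
  | _ k ih =>
  intro Vb U hVb hU hle hd b hk hb
  by_cases hmiss : ∀ x : X.cdPt (j + 1), x.1 ∈ U
  · have h : ((T.fjι X (j + 1) i' n' (fjIdx X Vb hVb)).app M).hom b = 0 :=
      (eq_zero_iff (T := T) (U := fjIdx X Vb hVb) (Good.fj X (j + 1)) M i' n' b).2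
        ⟨fjIdx X U (containsFj_succ hU hmiss), hle, hb⟩
    rw [h]; exact S.zero_mem
  push Not at hmiss
  obtain ⟨x, hxU⟩ := hmiss
  have hxVb : x.1 ∈ Vb := hVb _ x.2.le
  obtain ⟨V0, hxV0, hV0b, hUV0, hUV⟩ := exists_add x hU hle hxVb hxU
  have hV0 : ContainsFj X j V0 := fun y hy => hUV0 (hU y hy)
  have dU := (Good.fj X j).dim U hU
  have dV0 := (Good.fj X j).dim V0 hV0
  have dVb := (Good.fj X (j + 1)).dim Vb hVb
  have c0 := relCodim_preimage X x hxV0 dV0
  let D := lDec (X.ptSubι x.1) U V0 hUV (dU.trans dV0.symm)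
  let b0 := (T.pull (X.resLE hV0b (dV0.trans dVb.symm)) M i' n').hom b
  have hb0 : (T.pull D.j M i' n').hom b0 = 0 := by
    show (T.pull (X.resLE _ _) M i' n').hom ((T.pull (X.resLE _ _) M i' n').hom b) = 0
    rw [pull_resLE_resLE T X _ _ _ _ hd]
    exact hb
  obtain ⟨c, hc⟩ := exists_push_of_pull_eq_zero T D M i' n' i n
    (hi.trans (congrArg (fun z : ℤ => i + 2 * z) c0.symm)) (hn.trans (congrArg (n + ·) c0.symm)) b0 hb0
  let V2 := cut (X.ptSubι x.1) Vb (X.ptSubι x.1 ⁻¹ᵁ V0)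
  have hV2 : ContainsFj X (j + 1) V2 := containsFj_cut x le_rfl hVb (nonempty_preimage_ptSub hxV0)
  have hxV2 : x.1 ∈ V2 := hV2 _ x.2.le
  have dV2 := (Good.fj X (j + 1)).dim V2 hV2
  have hV2b : V2 ≤ Vb := cut_le _ _ _
  have hV02 : V0 ≤ V2 := fun y hy => (mem_cut _).2 ⟨hV0b hy, fun z hz => by
    show X.ptSubι x.1 z ∈ V0
    rw [hz]; exact hy⟩
  have hW : X.ptSubι x.1 ⁻¹ᵁ V2 ≤ X.ptSubι x.1 ⁻¹ᵁ V0 := by
    rw [preimage_cut]; exact inf_le_right
  have c2 := relCodim_preimage X x hxV2 dV2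
  have dW0 := dim_open_ptSub X x.1 _ (nonempty_preimage_ptSub hxV0)
  have dW2 := dim_open_ptSub X x.1 _ (nonempty_preimage_ptSub hxV2)
  let p := (T.push (X.ptSubι x.1 ∣_ V2) M i n i' n' (by rw [c2]; exact hi) (by rw [c2]; exact hn)).hom
    ((T.pull ((X.ptSub x.1).resLE hW (dW2.trans dW0.symm)) M i n).hom c)
  let b' := (T.pull (X.resLE hV2b (dV2.trans dVb.symm)) M i' n').hom b - p
  have hb' : (T.pull (X.resLE hV02 (dV0.trans dV2.symm)) M i' n').hom b' = 0 := by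
    refine (map_sub _ _ _).trans (sub_eq_zero.2 ((pull_resLE_resLE T X hV02 hV2b _ _ (dV0.trans dVb.symm) M i' n' b).trans ?_))
    refine Eq.trans ?_ (pull_push_restrict T (X.ptSubι x.1) hV02 _ (dW0.trans dW2.symm) M i n i' n'
      (by rw [c2]; exact hi) (by rw [c2]; exact hn)
      (by rw [c0]; exact hi) (by rw [c0]; exact hn)
      ((T.pull ((X.ptSub x.1).resLE hW (dW2.trans dW0.symm)) M i n).hom c)).symm
    refine hc.symm.trans (congrArg (T.push (X.ptSubι x.1 ∣_ V0) M i n i' n'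
      (by rw [c0]; exact hi) (by rw [c0]; exact hn)).hom ?_)
    exact ((pull_resLE_resLE T (X.ptSub x.1) _ hW _ _ rfl M i n c).trans
      (pull_resLE_self T (X.ptSub x.1) _ _ M i n c)).symm
  have hlt : (finite_missing X hV0).toFinset.card < k := by
    rw [← hk]
    refine Finset.card_lt_card ?_
    rw [Finset.ssubset_iff_of_subset fun y => by
      simp only [Set.Finite.mem_toFinset, Set.mem_setOf_eq]
      exact fun hy hyU => hy (hUV0 hyU)]
    exact ⟨x, by simpa using hxU, by simpa using hxV0⟩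
  have key : ((T.fjι X (j + 1) i' n' (fjIdx X Vb hVb)).app M).hom b =
      ((T.fjι X (j + 1) i' n' (fjIdx X V2 hV2)).app M).hom b' +
        ((T.fjι X (j + 1) i' n' (fjIdx X V2 hV2)).app M).hom p := by
    rw [← map_add, sub_add_cancel]
    exact (ι_res (T := T) (U := fjIdx X V2 hV2) (U' := fjIdx X Vb hVb) hV2b _ M i' n' b).symm
  rw [key]
  exact S.add_mem (ih _ hlt V2 V0 hV2 hV0 hV02 _ b' rfl hb') (hS x V2 hV2 _ _ _)

/-- A class on `F_j` all of whose residues vanish comes from `F_{j+1}`. -/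
theorem mem_range_fjRes (X : Obj V) (j : ℕ) (M : A.Cat) (i n i' n' : ℤ)
    (hi : i' = i + 1 - 2 * ((j : ℤ) + 1)) (hn : n' = n - ((j : ℤ) + 1)) (α : T.fjGp X j M i n)
    (hres : ∀ (x : X.cdPt (j + 1)) (U Vo : X.scheme.Opens) (hU : ContainsFj X j U) (hx : x.1 ∈ Vo)
      (hUV : (U : Set X.scheme) = (Vo : Set X.scheme) \ Set.range (X.ptSubι x.1)) (hd hi' hn')
      (a : T.gp (X.res U) M i n), ((T.fjι X j i n (fjIdx X U hU)).app M).hom a = α →
      ((T.ptι X x.1 i' n' (preIdx X x.1 Vo hx)).app M).hom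
        ((T.res (lDec (X.ptSubι x.1) U Vo hUV hd) M i n i' n' hi' hn').hom a) = 0) :
    α ∈ LinearMap.range ((T.fjRes X (Nat.le_succ j) i n).app M).hom := by
  obtain ⟨⟨U, hU, hUd⟩, a, ha⟩ := exists_rep (T := T) (Good.fj X j) M i n α
  suffices h : ∀ (k : ℕ) (U : X.scheme.Opens) (hU : ContainsFj X j U) (a : T.gp (X.res U) M i n),
      (finite_missing X hU).toFinset.card = k → ((T.fjι X j i n (fjIdx X U hU)).app M).hom a = α →
      α ∈ LinearMap.range ((T.fjRes X (Nat.le_succ j) i n).app M).hom from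
    h _ U hU a rfl ha
  intro k
  induction k using Nat.strong_induction_on with
  | _ k ih =>
  intro U hU a hk ha
  by_cases hmiss : ∀ x : X.cdPt (j + 1), x.1 ∈ U
  · exact ⟨((T.fjι X (j + 1) i n (fjIdx X U (containsFj_succ hU hmiss))).app M).hom a,
      (fjRes_ι (T := T) X (Nat.le_succ j) M i n (fjIdx X U (containsFj_succ hU hmiss)) a).trans ha⟩
  push Not at hmiss
  obtain ⟨x, hxU⟩ := hmiss
  obtain ⟨V0, hxV0, -, hUV0, hUV⟩ := exists_add x hU (le_top : U ≤ ⊤) trivial hxU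
  have hV0 : ContainsFj X j V0 := fun y hy => hUV0 (hU y hy)
  have dU := (Good.fj X j).dim U hU
  have dV0 := (Good.fj X j).dim V0 hV0
  have c0 := codim_lDec X x hUV (dU.trans dV0.symm) hxV0 dV0
  have e0 : i' = i + 1 - 2 * (lDec (X.ptSubι x.1) U V0 hUV (dU.trans dV0.symm)).codim := by
    rw [c0]; push_cast; exact hi
  have e0' : n' = n - (lDec (X.ptSubι x.1) U V0 hUV (dU.trans dV0.symm)).codim := by
    rw [c0]; push_cast; exact hn
  obtain ⟨⟨W', hW', hW'd⟩, hW'le, hr⟩ := (eq_zero_iff (T := T) (Good.pt X x.1) M i' n' _).1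
    (hres x U V0 hU hxV0 hUV _ e0 e0' a ha)
  let V1 := cut (X.ptSubι x.1) V0 W'
  have hxV1 : x.1 ∈ V1 := (mem_cut _).2 ⟨hxV0, fun z hz =>
    (X.ptSubι x.1).isClosedEmbedding.injective (hz.trans (ptSubι_ptGen X x.1).symm) ▸ ptGen_mem X x.1 hW'⟩
  have hUV1 : U ≤ V1 := fun y hy => (mem_cut _).2
    ⟨hUV0 hy, fun z hz => absurd ⟨z, hz⟩ ((Set.ext_iff.1 hUV y).1 hy).2⟩
  have hUVs : (U : Set X.scheme) = (V1 : Set X.scheme) \ Set.range (X.ptSubι x.1) :=
    Set.ext fun y => ⟨fun hy => ⟨hUV1 hy, ((Set.ext_iff.1 hUV y).1 hy).2⟩,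
      fun hy => (Set.ext_iff.1 hUV y).2 ⟨cut_le _ _ _ hy.1, hy.2⟩⟩
  have hV1 : ContainsFj X j V1 := fun y hy => hUV1 (hU y hy)
  have dV1 := (Good.fj X j).dim V1 hV1
  have dW0 := dim_open_ptSub X x.1 _ (nonempty_preimage_ptSub hxV0)
  have dW1 := dim_open_ptSub X x.1 _ (nonempty_preimage_ptSub hxV1)
  have c1 := codim_lDec X x hUVs (dU.trans dV1.symm) hxV1 dV1
  have hW1 : X.ptSubι x.1 ⁻¹ᵁ V1 ≤ W' := by rw [preimage_cut]; exact inf_le_right
  have hres1 := res_restrict T (X.ptSubι x.1) (cut_le _ V0 W') le_rfl hUV (dU.trans dV0.symm) hUVs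
    (dU.trans dV1.symm) rfl (dW1.trans dW0.symm) (dV1.trans dV0.symm) M i n i' n' e0 e0'
    (by rw [c1]; push_cast; exact hi) (by rw [c1]; push_cast; exact hn) a
  rw [pull_resLE_self] at hres1
  have dW' := dim_open_ptSub X x.1 W' hW'
  erw [← pull_resLE_resLE T (X.ptSub x.1) hW1 hW'le (dW1.trans dW'.symm) (dW'.trans dW0.symm)] at hres1
  erw [hr, map_zero] at hres1
  obtain ⟨a1, ha1⟩ := exists_pull_of_res_eq_zero T
    (lDec (X.ptSubι x.1) U V1 hUVs (dU.trans dV1.symm)) M i n i' n'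
    (by rw [c1]; push_cast; exact hi) (by rw [c1]; push_cast; exact hn) a hres1.symm
  have hlt : (finite_missing X hV1).toFinset.card < k := by
    rw [← hk]
    refine Finset.card_lt_card ?_
    rw [Finset.ssubset_iff_of_subset fun y => by
      simp only [Set.Finite.mem_toFinset, Set.mem_setOf_eq]
      exact fun hy hyU => hy (hUV1 hyU)]
    exact ⟨x, by simpa using hxU, by simpa using hxV1⟩
  refine ih _ hlt V1 hV1 a1 rfl ?_
  rw [← ha, ← ha1]
  exact (ι_res (T := T) (U := fjIdx X U hU) (U' := fjIdx X V1 hV1) hUV1 _ M i n a1).symm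

end Groth.Agent.H26BMCoh
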