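import Groth.Agent.H26BMCoh.Binary

/-!
# The union of the closures of finitely many points, near an open where they are disjoint
-/

set_option autoImplicit false
set_option linter.style.haveILetI false

universe u

open AlgebraicGeometry CategoryTheory CategoryTheory.Limits TopologicalSpace Topology Opposite

namespace Groth.Agent.H26BMCoh

open BMCoh WeilCoh

variable {V : ObjectProperty Scheme.{u}} [IsConstructible V] {R : Type u} [CommRing R] {A : Coefs R}

variable {X : Obj V} {m : ℕ}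

/-- The union of the closures of the points of `S`. -/
noncomputable def uSet (S : Finset (X.cdPt m)) : Closeds X.scheme :=
  ⟨⋃ x ∈ (S : Set (X.cdPt m)), closure ({x.1} : Set X.scheme),
    S.finite_toSet.isClosed_biUnion fun _ _ => isClosed_closure⟩

lemma mem_uSet {S : Finset (X.cdPt m)} {z : X.scheme} : z ∈ uSet S ↔ ∃ x ∈ S, x.1 ⤳ z := by
  show z ∈ (⋃ x ∈ (S : Set (X.cdPt m)), closure ({x.1} : Set X.scheme)) ↔ _
  simp only [Set.mem_iUnion₂, specializes_iff_mem_closure, Finset.mem_coe, exists_prop]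

/-- The union, with its reduced structure, as an object. -/
noncomputable abbrev uObj (S : Finset (X.cdPt m)) : Obj V :=
  ⟨(Scheme.IdealSheafData.vanishingIdeal (uSet S)).subscheme,
    IsConstructible.of_isClosedImmersion (Scheme.IdealSheafData.vanishingIdeal (uSet S)).subschemeι
      (h := (inferInstance : IsClosedImmersion _)) X.mem⟩

/-- The inclusion of the union. -/
noncomputable abbrev uι (S : Finset (X.cdPt m)) : (uObj S).scheme ⟶ X.scheme :=
  (Scheme.IdealSheafData.vanishingIdeal (uSet S)).subschemeι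

instance (S : Finset (X.cdPt m)) : IsReduced (uObj S).scheme :=
  Groth.Agent.H17.isReduced_vanishingIdeal_subscheme _

lemma mem_range_uι {S : Finset (X.cdPt m)} {z : X.scheme} :
    z ∈ Set.range (uι S) ↔ ∃ x ∈ S, x.1 ⤳ z := by
  rw [Scheme.IdealSheafData.range_subschemeι, Scheme.IdealSheafData.coe_support_vanishingIdeal]
  exact mem_uSet

/-- The closures of the points of `S` are disjoint on `Vo`, which contains all of them. -/
structure Disj (S : Finset (X.cdPt m)) (Vo : X.scheme.Opens) : Prop where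
  mem : ∀ x ∈ S, x.1 ∈ Vo
  dis : ∀ x ∈ S, ∀ y ∈ S, ∀ z ∈ Vo, x.1 ⤳ z → y.1 ⤳ z → x = y

/-- The open away from the closures of the other points. -/
noncomputable def others (S : Finset (X.cdPt m)) (x : X.cdPt m) : X.scheme.Opens :=
  ⟨(⋃ y ∈ {y ∈ (S : Set (X.cdPt m)) | y ≠ x}, closure ({y.1} : Set X.scheme))ᶜ,
    ((S.finite_toSet.subset (Set.sep_subset _ _)).isClosed_biUnion
      fun _ _ => isClosed_closure).isOpen_compl⟩

lemma mem_others {S : Finset (X.cdPt m)} {x : X.cdPt m} {z : X.scheme} :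
    z ∈ others S x ↔ ∀ y ∈ S, y.1 ⤳ z → y = x := by
  show z ∉ (⋃ y ∈ {y ∈ (S : Set (X.cdPt m)) | y ≠ x}, closure ({y.1} : Set X.scheme)) ↔ _
  simp only [Set.mem_iUnion₂, not_exists, specializes_iff_mem_closure, Set.mem_setOf_eq, Finset.mem_coe]
  exact ⟨fun h y hy hyz => by_contra fun hne => h y ⟨hy, hne⟩ hyz, fun h y hy hyz => hy.2 (h y hy.1 hyz)⟩

lemma dim_preimage_uι {S : Finset (X.cdPt m)} {Vo : X.scheme.Opens} (hD : Disj S Vo) {x : X.cdPt m}
    (hx : x ∈ S) : dim ((uι S ⁻¹ᵁ Vo : (uObj S).scheme.Opens) : Scheme.{u}) = pdim X.scheme x.1 := by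
  refine le_antisymm (dim_le ((uObj S).res _) fun z => ?_) ?_
  · obtain ⟨y, hy, hyz⟩ := mem_range_uι.1 (Set.mem_range_self ((uι S ⁻¹ᵁ Vo).ι z))
    rw [pdim_res, pdim_closedImm X (uObj S) (uι S)]
    refine (pdim_mono X hyz).trans_eq ?_
    have h1 := codim_add_pdim X x.1
    have h2 := codim_add_pdim X y.1
    rw [x.2] at h1
    rw [y.2] at h2
    omega
  · obtain ⟨g, hg⟩ := mem_range_uι.2 ⟨x, hx, specializes_rfl⟩
    have h := pdim_le_dim_res (uObj S) (uι S ⁻¹ᵁ Vo) (show g ∈ uι S ⁻¹ᵁ Vo from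
      show uι S g ∈ Vo from hg ▸ hD.mem x hx)
    rwa [pdim_closedImm X (uObj S) (uι S), hg] at h

lemma exists_piece {S : Finset (X.cdPt m)} {Vo : X.scheme.Opens} (hD : Disj S Vo) {x : X.cdPt m}
    (hx : x ∈ S) :
    ∃ f : (X.ptSub x.1).res (X.ptSubι x.1 ⁻¹ᵁ Vo) ⟶ (uObj S).res (uι S ⁻¹ᵁ Vo),
      IsProper f.hom ∧ f.hom ≫ (uι S ∣_ Vo) = X.ptSubι x.1 ∣_ Vo ∧
      Set.range f.hom = {z | uι S ((uι S ⁻¹ᵁ Vo).ι z) ∈ others S x} := by
  let k : (X.ptSub x.1).scheme ⟶ (uObj S).scheme := Scheme.IdealSheafData.inclusion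
    (Scheme.IdealSheafData.vanishingIdeal_antimono (X := X.scheme)
      (show (⟨closure {x.1}, isClosed_closure⟩ : Closeds X.scheme) ≤ uSet S from fun z hz =>
        mem_uSet.2 ⟨x, hx, specializes_iff_mem_closure.2 hz⟩))
  have hk : k ≫ uι S = X.ptSubι x.1 := Scheme.IdealSheafData.inclusion_subschemeι _
  haveI : IsClosedImmersion (k ≫ uι S) := hk ▸ inferInstance
  haveI : IsClosedImmersion k := IsClosedImmersion.of_comp k (uι S)
  have he : X.ptSubι x.1 ⁻¹ᵁ Vo = k ⁻¹ᵁ (uι S ⁻¹ᵁ Vo) := by rw [← hk]; rfl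
  let f0 : ((X.ptSubι x.1 ⁻¹ᵁ Vo : _) : Scheme.{u}) ⟶ ((uι S ⁻¹ᵁ Vo : _) : Scheme.{u}) :=
    ((X.ptSub x.1).scheme.isoOfEq he).hom ≫ (k ∣_ (uι S ⁻¹ᵁ Vo))
  haveI : IsClosedImmersion (k ∣_ (uι S ⁻¹ᵁ Vo)) :=
    IsZariskiLocalAtTarget.restrict ‹IsClosedImmersion k› _
  haveI : IsClosedImmersion f0 := inferInstanceAs (IsClosedImmersion (_ ≫ _))
  have hf0 : f0 ≫ (uι S ∣_ Vo) = X.ptSubι x.1 ∣_ Vo := by
    rw [← cancel_mono Vo.ι, Category.assoc, morphismRestrict_ι, morphismRestrict_ι]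
    simp only [f0, Category.assoc]
    rw [morphismRestrict_ι_assoc, Scheme.isoOfEq_hom_ι_assoc, hk]
  have hval : ∀ w, uι S ((uι S ⁻¹ᵁ Vo).ι (f0 w)) = X.ptSubι x.1 ((X.ptSubι x.1 ⁻¹ᵁ Vo).ι w) := fun w => by
    rw [← Scheme.Hom.comp_apply, ← Scheme.Hom.comp_apply, ← Scheme.Hom.comp_apply, ← morphismRestrict_ι,
      ← morphismRestrict_ι, ← Category.assoc, hf0]
  have hrange : Set.range f0 = {z | uι S ((uι S ⁻¹ᵁ Vo).ι z) ∈ others S x} := by
    ext z
    constructor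
    · rintro ⟨w, rfl⟩
      show _ ∈ others S x
      rw [hval, mem_others]
      intro y hy hyz
      exact hD.dis y hy x hx _ w.2 hyz (specializes_ptSubι X x.1 _)
    · intro hz
      obtain ⟨y, hy, hyz⟩ := mem_range_uι.1 (Set.mem_range_self ((uι S ⁻¹ᵁ Vo).ι z))
      obtain rfl : y = x := mem_others.1 hz y hy hyz
      obtain ⟨w, hw⟩ := mem_range_ptSubι.2 hyz
      refine ⟨⟨w, show X.ptSubι y.1 w ∈ Vo from hw ▸ z.2⟩, ?_⟩
      refine (uι S ⁻¹ᵁ Vo).ι.isOpenEmbedding.injective ((uι S).isClosedEmbedding.injective ?_)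
      rw [hval]
      exact hw
  let Q : ((uι S ⁻¹ᵁ Vo : _) : Scheme.{u}).Opens := (uι S ⁻¹ᵁ Vo).ι ⁻¹ᵁ (uι S ⁻¹ᵁ others S x)
  have hQ : Set.range f0 = (Q : Set _) := hrange
  let g := IsOpenImmersion.lift Q.ι f0 (by rw [hQ, Scheme.Opens.range_ι])
  have hg : g ≫ Q.ι = f0 := IsOpenImmersion.lift_fac _ _ _
  haveI : IsClosedImmersion (g ≫ Q.ι) := hg ▸ inferInstance
  haveI : IsClosedImmersion g := IsClosedImmersion.of_comp g Q.ι
  haveI : Surjective g := ⟨fun q => by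
    obtain ⟨w, hw⟩ := (Set.ext_iff.1 hQ (Q.ι q)).2 q.2
    exact ⟨w, Q.ι.isOpenEmbedding.injective (by rw [← Scheme.Hom.comp_apply, hg, hw])⟩⟩
  haveI : IsIso g := isIso_of_isClosedImmersion_of_surjective g
  haveI : IsOpenImmersion f0 := hg ▸ inferInstance
  exact ⟨⟨f0, inferInstance, (dim_open_ptSub X x.1 _ (nonempty_preimage_ptSub (hD.mem x hx))).trans
    (dim_preimage_uι hD hx).symm⟩, (inferInstance : IsProper f0), hf0, hrange⟩

/-- The piece of the union at a point. -/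
noncomputable def piece {S : Finset (X.cdPt m)} {Vo : X.scheme.Opens} (hD : Disj S Vo) {x : X.cdPt m}
    (hx : x ∈ S) : (X.ptSub x.1).res (X.ptSubι x.1 ⁻¹ᵁ Vo) ⟶ (uObj S).res (uι S ⁻¹ᵁ Vo) :=
  (exists_piece hD hx).choose

instance isProper_piece {S : Finset (X.cdPt m)} {Vo : X.scheme.Opens} (hD : Disj S Vo) {x : X.cdPt m}
    (hx : x ∈ S) : IsProper (piece hD hx).hom :=
  (exists_piece hD hx).choose_spec.1

lemma piece_uι {S : Finset (X.cdPt m)} {Vo : X.scheme.Opens} (hD : Disj S Vo) {x : X.cdPt m}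
    (hx : x ∈ S) : (piece hD hx).hom ≫ (uι S ∣_ Vo) = X.ptSubι x.1 ∣_ Vo :=
  (exists_piece hD hx).choose_spec.2.1

lemma range_piece {S : Finset (X.cdPt m)} {Vo : X.scheme.Opens} (hD : Disj S Vo) {x : X.cdPt m}
    (hx : x ∈ S) :
    Set.range (piece hD hx).hom = {z | uι S ((uι S ⁻¹ᵁ Vo).ι z) ∈ others S x} :=
  (exists_piece hD hx).choose_spec.2.2

variable (T : PreTheory V R A) {S : Finset (X.cdPt m)} {Vo : X.scheme.Opens} (hD : Disj S Vo)

lemma piece_disjoint {x y : X.cdPt m} (hx : x ∈ S) (hy : y ∈ S) (hxy : x ≠ y) :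
    Disjoint (Set.range (piece hD hx).hom) (Set.range (piece hD hy).hom) := by
  rw [range_piece, range_piece, Set.disjoint_left]
  intro z hzx hzy
  obtain ⟨w, hw, hwz⟩ := mem_range_uι.1 (Set.mem_range_self ((uι S ⁻¹ᵁ Vo).ι z))
  exact hxy ((mem_others.1 hzx w hw hwz).symm.trans (mem_others.1 hzy w hw hwz))

include hD in
lemma relCodim_piece {x : X.cdPt m} (hx : x ∈ S) :
    relCodim ((X.ptSub x.1).res (X.ptSubι x.1 ⁻¹ᵁ Vo)).scheme ((uObj S).res (uι S ⁻¹ᵁ Vo)).scheme = 0 := by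
  show (dim ((uι S ⁻¹ᵁ Vo : _) : Scheme.{u}) : ℤ) - (dim ((X.ptSubι x.1 ⁻¹ᵁ Vo : _) : Scheme.{u}) : ℤ) = 0
  rw [dim_preimage_uι hD hx, dim_open_ptSub X x.1 _ (nonempty_preimage_ptSub (hD.mem x hx)), sub_self]

lemma pull_piece_push_self {x : X.cdPt m} (hx : x ∈ S) (M : A.Cat) (i n : ℤ) (hi hn)
    (c : T.gp ((X.ptSub x.1).res (X.ptSubι x.1 ⁻¹ᵁ Vo)) M i n) :
    (T.pull (piece hD hx) M i n).hom ((T.push (piece hD hx).hom M i n i n hi hn).hom c) = c :=
  pull_push_self T (piece hD hx) M i n hi hn c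

lemma pull_piece_push_of_ne {x y : X.cdPt m} (hx : x ∈ S) (hy : y ∈ S) (hxy : x ≠ y) (M : A.Cat)
    (i n : ℤ) (hi hn) (c : T.gp ((X.ptSub x.1).res (X.ptSubι x.1 ⁻¹ᵁ Vo)) M i n) :
    (T.pull (piece hD hy) M i n).hom ((T.push (piece hD hx).hom M i n i n hi hn).hom c) = 0 := by
  let W := (uObj S).res (uι S ⁻¹ᵁ Vo)
  haveI : IsClosedImmersion (piece hD hx).hom := by
    haveI : IsClosedImmersion ((piece hD hx).hom ≫ (uι S ∣_ Vo)) := by rw [piece_uι]; infer_instance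
    exact IsClosedImmersion.of_comp _ (uι S ∣_ Vo)
  let U : W.scheme.Opens := ⟨(Set.range (piece hD hx).hom)ᶜ,
    (piece hD hx).hom.isClosedEmbedding.isClosed_range.isOpen_compl⟩
  have hle : (piece hD hy).hom.opensRange ≤ U := fun z hz =>
    Set.disjoint_right.1 (piece_disjoint hD hx hy hxy) hz
  have dU : dim (U : Scheme.{u}) = dim W.scheme := le_antisymm (dim_res_le W U)
    ((piece hD hy).dim_eq.symm.trans_le (((dim_eq_of_iso (piece hD hy).hom.isoOpensRange)).trans_le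
      (dim_res_mono W hle)))
  let D : Decomp W := ⟨(X.ptSub x.1).res (X.ptSubι x.1 ⁻¹ᵁ Vo), W.res U, (piece hD hx).hom, inferInstance,
    W.resι U dU, Scheme.Opens.range_ι U⟩
  let g : (X.ptSub y.1).res (X.ptSubι y.1 ⁻¹ᵁ Vo) ⟶ W.res U :=
    ⟨IsOpenImmersion.lift U.ι (piece hD hy).hom (by rw [Scheme.Opens.range_ι]; exact hle),
      IsOpenImmersion.of_comp _ U.ι, ((piece hD hy).dim_eq.trans dU.symm)⟩
  have hg : g ≫ W.resι U dU = piece hD hy := Hom.ext (IsOpenImmersion.lift_fac _ _ _)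
  rw [← hg, ← pull_pull]
  exact (congrArg _ (pull_push_eq_zero T D M i n i n hi hn c)).trans (map_zero _)

/-- A class on the union vanishes if it vanishes on every piece. -/
lemma union_ext (M : A.Cat) (i n : ℤ) (r r' : T.gp ((uObj S).res (uι S ⁻¹ᵁ Vo)) M i n)
    (h : ∀ x (hx : x ∈ S), (T.pull (piece hD hx) M i n).hom r = (T.pull (piece hD hx) M i n).hom r') :
    r = r' := by
  refine sub_eq_zero.1 ?_
  let W := (uObj S).res (uι S ⁻¹ᵁ Vo)
  let P : S → W.scheme.Opens := fun x => (piece hD x.2).hom.opensRange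
  have hdim : ∀ x ∈ (Finset.univ : Finset S), dim (P x : Scheme.{u}) = dim W.scheme := fun x _ =>
    (dim_eq_of_iso (piece hD x.2).hom.isoOpensRange).symm.trans (piece hD x.2).dim_eq
  refine eq_zero_of_cover T Finset.univ P hdim (fun x _ y _ hxy =>
    piece_disjoint hD x.2 y.2 (fun e => hxy (Subtype.ext e))) (fun z => ?_) M i n _ fun x hx => ?_
  · obtain ⟨y, hy, hyz⟩ := mem_range_uι.1 (Set.mem_range_self ((uι S ⁻¹ᵁ Vo).ι z))
    refine ⟨⟨y, hy⟩, Finset.mem_univ _, ?_⟩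
    show z ∈ Set.range (piece hD hy).hom
    rw [range_piece]
    exact mem_others.2 fun w hw hwz => hD.dis w hw y hy _ z.2 hwz hyz
  · let e' : W.res (P x) ⟶ (X.ptSub x.1.1).res (X.ptSubι x.1.1 ⁻¹ᵁ Vo) :=
      ⟨(piece hD x.2).hom.isoOpensRange.inv, inferInstance, (hdim x hx).trans (piece hD x.2).dim_eq.symm⟩
    have he : e' ≫ piece hD x.2 = W.resι (P x) (hdim x hx) :=
      Hom.ext ((piece hD x.2).hom.isoOpensRange_inv_comp)
    rw [← he, ← pull_pull, map_sub, h x.1 x.2, sub_self, map_zero]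

include hD in
/-- A class with prescribed restrictions to the pieces. -/
lemma exists_union (M : A.Cat) (i n : ℤ)
    (c : ∀ x ∈ S, T.gp ((X.ptSub x.1).res (X.ptSubι x.1 ⁻¹ᵁ Vo)) M i n) :
    ∃ r : T.gp ((uObj S).res (uι S ⁻¹ᵁ Vo)) M i n,
      ∀ x (hx : x ∈ S), (T.pull (piece hD hx) M i n).hom r = c x hx := by
  classical
  refine ⟨∑ x ∈ S.attach, (T.push (piece hD x.2).hom M i n i n (by rw [relCodim_piece hD x.2]; ring)
    (by rw [relCodim_piece hD x.2]; ring)).hom (c x.1 x.2), fun x hx => ?_⟩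
  rw [map_sum, Finset.sum_eq_single ⟨x, hx⟩]
  · exact pull_piece_push_self T hD hx M i n _ _ _
  · exact fun y _ hy => pull_piece_push_of_ne T hD y.2 hx (fun e => hy (Subtype.ext e)) M i n _ _ _
  · exact fun h => absurd (Finset.mem_attach _ _) h

/-- Push-forward of a class on the union is the sum over the pieces. -/
lemma push_union (M : A.Cat) (i n i' n' : ℤ) (hi hn)
    (hx' : ∀ x ∈ S, i' = i + 2 * relCodim ((X.ptSub x.1).res (X.ptSubι x.1 ⁻¹ᵁ Vo)).scheme (X.res Vo).scheme ∧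
      n' = n + relCodim ((X.ptSub x.1).res (X.ptSubι x.1 ⁻¹ᵁ Vo)).scheme (X.res Vo).scheme)
    (r : T.gp ((uObj S).res (uι S ⁻¹ᵁ Vo)) M i n) :
    (T.push (uι S ∣_ Vo) M i n i' n' hi hn).hom r =
      ∑ x ∈ S.attach, (T.push (X.ptSubι x.1.1 ∣_ Vo) M i n i' n' (hx' x.1 x.2).1 (hx' x.1 x.2).2).hom
        ((T.pull (piece hD x.2) M i n).hom r) := by
  classical
  have hr : r = ∑ x ∈ S.attach, (T.push (piece hD x.2).hom M i n i n (by rw [relCodim_piece hD x.2]; ring)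
      (by rw [relCodim_piece hD x.2]; ring)).hom ((T.pull (piece hD x.2) M i n).hom r) := by
    refine union_ext T hD M i n _ _ fun x hx => ?_
    rw [map_sum, Finset.sum_eq_single ⟨x, hx⟩]
    · exact (pull_piece_push_self T hD hx M i n _ _ _).symm
    · exact fun y _ hy => pull_piece_push_of_ne T hD y.2 hx (fun e => hy (Subtype.ext e)) M i n _ _ _
    · exact fun h => absurd (Finset.mem_attach _ _) h
  conv_lhs => rw [hr]
  rw [map_sum]
  refine Finset.sum_congr rfl fun x _ => ?_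
  rw [← LinearMap.comp_apply, ← ModuleCat.hom_comp,
    T.push_comp (piece hD x.2).hom (uι S ∣_ Vo) M i n i n i' n' _ _ hi hn
      (by have := (hx' x.1 x.2).1; exact this) (by have := (hx' x.1 x.2).2; exact this)]
  rw [push_congr T (piece_uι hD x.2)]

/-- The residue on the union restricts to the residues at the points. -/
lemma pull_piece_res {x : X.cdPt m} (hx : x ∈ S) {U : X.scheme.Opens}
    (hUV : (U : Set X.scheme) = (Vo : Set X.scheme) \ Set.range (uι S)) (hd)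
    (hUx : (U : Set X.scheme) =
      ((Vo ⊓ others S x : X.scheme.Opens) : Set X.scheme) \ Set.range (X.ptSubι x.1)) (hdx)
    (hdW) (M : A.Cat) (i n i' n' : ℤ) (hi hn hix hnx) (a : T.gp (X.res U) M i n) :
    (T.pull ((X.ptSub x.1).resLE ((X.ptSubι x.1).preimage_mono (inf_le_left (b := others S x))) hdW) M i' n').hom
        ((T.pull (piece hD hx) M i' n').hom
          ((T.res (lDec (uι S) U Vo hUV hd) M i n i' n' hi hn).hom a)) =
      (T.res (lDec (X.ptSubι x.1) U (Vo ⊓ others S x) hUx hdx) M i n i' n' hix hnx).hom a := by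
  rw [pull_pull]
  have hdV : dim ((Vo ⊓ others S x : X.scheme.Opens) : Scheme.{u}) = dim (Vo : Scheme.{u}) :=
    hdx.symm.trans hd
  refine (ConcreteCategory.congr_hom (T.res_pull (lDec (uι S) U Vo hUV hd)
    (lDec (X.ptSubι x.1) U (Vo ⊓ others S x) hUx hdx)
    (X.resLE inf_le_left hdV) ((X.ptSub x.1).resLE _ hdW ≫ piece hD hx) (𝟙 _) ?_ ?_ M i n i' n' hi hn hix hnx) a).trans
    (congrArg _ (pull_id T _ M i n a))
  · show (_ ≫ _) ≫ (uι S ∣_ Vo) = _
    rw [Category.assoc, piece_uι]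
    exact (isPullback_restrict (X.ptSubι x.1) (inf_le_left (a := Vo) (b := others S x))).w
  · exact hom_ext_res (by simp [lDec, Obj.resLE])

end Groth.Agent.H26BMCoh
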